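import Groth.Agent.L11.HilbConn.Step
import Groth.Agent.S1166
import Groth.Agent.S7388
import Groth.Prelude.Def_Neron

/-!
# Zero points, and preparations on the scheme
-/

set_option autoImplicit false
set_option linter.style.haveILetI false
set_option linter.unusedSectionVars false
set_option backward.isDefEq.respectTransparency false
set_option backward.isDefEq.respectTransparency.types false

universe u

open CategoryTheory CategoryTheory.Limits AlgebraicGeometry TopologicalSpace
open scoped TensorProduct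
open Groth.L02.Hilb Groth.L13.BU

noncomputable section

namespace Groth.L11.HilbConn

variable {k : Type u} [Field k] [IsAlgClosed k] {Y : Scheme.{u}} {f : Y ⟶ Spec (CommRingCat.of k)}
variable [IsSeparated f] [LocallyOfFiniteType f]

theorem isFam_top {B : Type u} [CommRing B] [Algebra k B] : IsFam 0 (⊤ : Ideal (k ⊗[k] B)) := by
  haveI : Subsingleton ((k ⊗[k] B) ⧸ (⊤ : Ideal (k ⊗[k] B))) := Ideal.Quotient.subsingleton_iff.2 rfl
  haveI : Module.Finite k ((k ⊗[k] B) ⧸ (⊤ : Ideal (k ⊗[k] B))) :=
    ⟨⟨∅, Subsingleton.elim _ _⟩⟩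
  exact isFam_of_finrank (Module.finrank_zero_of_subsingleton)

/-- The Hilbert scheme of no points is connected. -/
theorem connectedSpace_zero (hfin : ∀ E : Set Y, E.Finite → ∃ U : Y.Opens, IsAffineOpen U ∧ E ⊆ U)
    {H : Over (Spec (CommRingCat.of k))} {Z : HilbD.Obj f 0 H} (hH : HilbD.IsUniversal f 0 H Z)
    [LocallyOfFiniteType H.hom] : ConnectedSpace H.left := by
  haveI : JacobsonSpace H.left := LocallyOfFiniteType.jacobsonSpace H.hom
  obtain ⟨U, hU, -⟩ := hfin ∅ Set.finite_empty
  obtain ⟨P, -⟩ := exists_piece (f := f) U hU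
  let x₀ := toH hH P (isFam_top (k := k) (B := P.B))
  have hall : ∀ w ∈ closedPoints H.left, w = x₀.left p₀ := by
    intro w hw
    obtain ⟨x, hx⟩ := exists_point (H := H) hw
    obtain ⟨U', hU', hE⟩ := hfin (suppPt Z x) (finite_suppPt x)
    obtain ⟨P', hP'⟩ := exists_piece (f := f) U' hU'
    obtain ⟨K, hK, hKx⟩ := exists_toH_eq hH P' x (hP' ▸ hE)
    have hK' : K = ⊤ := hK.eq_of_le isFam_top le_top
    have hs : suppPt Z x = ∅ := by
      rw [← hKx, suppPt_toH, hK']
      ext y
      simp only [Piece.supp, Set.mem_setOf_eq, Set.mem_empty_iff_false, iff_false, not_exists, not_and]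
      exact fun p hp => absurd (top_le_iff.1 hp) p.2.ne_top
    obtain ⟨K₀, hK₀, hK₀x⟩ := exists_toH_eq hH P x (by rw [hs]; exact Set.empty_subset _)
    rw [← hx, ← hK₀x, toH_congr hH P (hK₀.eq_of_le isFam_top le_top) hK₀ isFam_top]
  refine connectedSpace_iff_connectedComponent.2 ⟨x₀.left p₀, Set.univ_subset_iff.1 ?_⟩
  rw [← closure_closedPoints (X := H.left)]
  refine closure_minimal (fun w hw => ?_) isClosed_connectedComponent
  rw [hall w hw]
  exact mem_connectedComponent

/-- Finite sets of points of a projective scheme lie in affine opens. -/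
theorem exists_affine_of_finite (X : Over (Spec (CommRingCat.of k))) (hproj : Neron.IsProjectiveOver k X)
    (E : Set X.left) (hE : E.Finite) : ∃ U : X.left.Opens, IsAffineOpen U ∧ E ⊆ U := by
  obtain ⟨N, i, hi, -⟩ := hproj
  haveI := hi
  haveI : IsAffineHom (specULiftZIsTerminal.from (Spec (CommRingCat.of k))) := inferInstance
  haveI : IsAffineHom (pullback.fst (CohB1.ProjSpace.toSpec N (ULift.{u} ℤ))
      (specULiftZIsTerminal.from (Spec (CommRingCat.of k)))) :=
    MorphismProperty.pullback_fst _ _ inferInstance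
  let g := i ≫ pullback.fst (CohB1.ProjSpace.toSpec N (ULift.{u} ℤ))
    (specULiftZIsTerminal.from (Spec (CommRingCat.of k)))
  haveI : IsAffineHom g := inferInstanceAs (IsAffineHom (i ≫ _))
  obtain ⟨U, hU, hEU⟩ := Groth.L18.ProjAvoid.exists_affineOpen_of_immersion _ (𝟙 _) (g '' E) (hE.image g)
  exact ⟨g ⁻¹ᵁ U, hU.preimage g, fun x hx => hEU ⟨x, hx, rfl⟩⟩

end Groth.L11.HilbConn
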