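import Groth.Agent.L11.HilbConn.Geom

/-!
# Change of the affine piece
-/

set_option autoImplicit false
set_option linter.style.haveILetI false
set_option linter.unusedSectionVars false
set_option backward.isDefEq.respectTransparency false
set_option backward.isDefEq.respectTransparency.types false

universe u

open CategoryTheory CategoryTheory.Limits AlgebraicGeometry TopologicalSpace
open scoped TensorProduct
open Groth.L02.Hilb Groth.L13.BU

noncomputable section

namespace Groth.L11.HilbConn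

variable {k : Type u} [Field k] {Y : Scheme.{u}} {f : Y ⟶ Spec (CommRingCat.of k)}

theorem exists_piece [LocallyOfFiniteType f] (U : Y.Opens) (hU : IsAffineOpen U) :
    ∃ P : Piece f, Set.range P.j = (U : Set Y) := by
  let φ : CommRingCat.of k ⟶ Γ(Y, U) := Spec.preimage (hU.fromSpec ≫ f)
  letI : Algebra k Γ(Y, U) := φ.hom.toAlgebra
  have hφ : Spec.map φ = hU.fromSpec ≫ f := Spec.map_preimage _
  have ft : Algebra.FiniteType k Γ(Y, U) := by
    have h1 : LocallyOfFiniteType (Spec.map φ) := by rw [hφ]; infer_instance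
    exact (HasRingHomProperty.Spec_iff (P := @LocallyOfFiniteType)).1 h1
  haveI := ft
  exact ⟨{ B := Γ(Y, U), j := hU.fromSpec, w := hφ.symm }, hU.range_fromSpec⟩

namespace Piece

theorem exists_hom (P P' : Piece f) (h : Set.range P'.j ⊆ Set.range P.j) :
    ∃ θ : P.B →ₐ[k] P'.B, Spec.map (CommRingCat.ofHom θ.toRingHom) ≫ P.j = P'.j := by
  let l := IsOpenImmersion.lift P.j P'.j h
  have hl : l ≫ P.j = P'.j := IsOpenImmersion.lift_fac _ _ _
  have hψ : Spec.map (Spec.preimage l) = l := Spec.map_preimage _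
  have hw : Spec.map (CommRingCat.ofHom (algebraMap k P.B) ≫ Spec.preimage l) =
      Spec.map (CommRingCat.ofHom (algebraMap k P'.B)) := by
    rw [Spec.map_comp, hψ, ← P.w, ← Category.assoc, hl, P'.w]
  have hw' := congrArg CommRingCat.Hom.hom (Spec.map_injective hw)
  refine ⟨{ (Spec.preimage l).hom with commutes' := fun r => congrArg (fun g : k →+* P'.B => g r) hw' }, ?_⟩
  show Spec.map (Spec.preimage l) ≫ P.j = P'.j
  rw [hψ, hl]

variable [IsSeparated f] {A : Type u} [CommRing A] [Algebra k A] {n : ℕ} {P P' : Piece f} (θ : P.B →ₐ[k] P'.B)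
  (hθ : Spec.map (CommRingCat.ofHom θ.toRingHom) ≫ P.j = P'.j)

include hθ

theorem μ_comp : Spec.map (CommRingCat.ofHom (Algebra.TensorProduct.map (AlgHom.id k A) θ).toRingHom) ≫ P.μ A =
    P'.μ A := by
  apply pullback.hom_ext
  · rw [Category.assoc, show P.μ A ≫ pullback.fst f (TA A).hom = (P.chart 0).inclB A ≫ P.j from (P.chart 0).μ_fst A,
      show P'.μ A ≫ pullback.fst f (TA A).hom = (P'.chart 0).inclB A ≫ P'.j from (P'.chart 0).μ_fst A, ← hθ,
      ← Category.assoc, ← Category.assoc]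
    congr 1
    show Spec.map _ ≫ Spec.map _ = Spec.map _ ≫ Spec.map _
    rw [← Spec.map_comp, ← Spec.map_comp]
    congr 1
  · rw [Category.assoc, show P.μ A ≫ PicF.XTproj f (TA A) = (P.chart 0).inclA A from (P.chart 0).μ_proj A,
      show P'.μ A ≫ PicF.XTproj f (TA A) = (P'.chart 0).inclA A from (P'.chart 0).μ_proj A]
    show Spec.map _ ≫ Spec.map _ = Spec.map _
    rw [← Spec.map_comp]
    congr 1
    ext a
    simp

theorem change_fam {K : Ideal (A ⊗[k] P.B)} (hK : IsFam n K) (hs : P.supp K ⊆ Set.range P'.j) :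
    IsFam n (K.map (Algebra.TensorProduct.map (AlgHom.id k A) θ).toRingHom) ∧
      P'.fam (K.map (Algebra.TensorProduct.map (AlgHom.id k A) θ).toRingHom) = P.fam K := by
  have hr : Set.range (P.fam K).subschemeι ⊆ Set.range (P'.μ A) := by
    rw [P.range_fam hK]
    rintro _ ⟨p, hp, rfl⟩
    rw [P'.mem_range_μ']
    exact hs ⟨p, hp, rfl⟩
  obtain ⟨K', hK', he⟩ := P'.exists_fam (P.fam K) (P.deg_fam hK) hr
  have : K' = K.map (Algebra.TensorProduct.map (AlgHom.id k A) θ).toRingHom := by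
    refine idealOf_injective ?_
    rw [← P'.fam_comap hK', he, ← μ_comp θ hθ, Scheme.IdealSheafData.comap_comp, P.fam_comap hK, idealOf_comap]
  exact this ▸ ⟨hK', he⟩

end Piece

theorem pt_isClosed [IsSeparated f] (P : Piece f) (χ : P.B →ₐ[k] k) : IsClosed ({P.pt χ} : Set Y) := by
  let s : Spec (CommRingCat.of k) ⟶ Y := Spec.map (CommRingCat.ofHom χ.toRingHom) ≫ P.j
  have hs : s ≫ f = 𝟙 _ := by
    simp only [s, Category.assoc, P.w, ← Spec.map_comp]
    rw [← Spec.map_id]
    congr 1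
    ext r
    exact χ.commutes r
  haveI : IsClosedImmersion (s ≫ f) := by rw [hs]; infer_instance
  haveI : IsClosedImmersion s := IsClosedImmersion.of_comp s f
  have hr : Set.range s = {P.pt χ} := by
    refine Set.eq_singleton_iff_unique_mem.2 ⟨⟨IsLocalRing.closedPoint k, rfl⟩, ?_⟩
    rintro _ ⟨z, rfl⟩
    exact congrArg s (Subsingleton.elim (α := PrimeSpectrum k) z (IsLocalRing.closedPoint k))
  rw [← hr]
  exact s.isClosedEmbedding.isClosed_range

theorem asIdeal_comap_closedPoint {B : Type u} [CommRing B] [Algebra k B] (χ : B →ₐ[k] k) :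
    (PrimeSpectrum.comap χ.toRingHom (IsLocalRing.closedPoint k)).asIdeal = RingHom.ker χ := by
  rw [PrimeSpectrum.comap_asIdeal]
  show Ideal.comap χ.toRingHom (IsLocalRing.maximalIdeal k) = _
  rw [IsLocalRing.maximalIdeal_eq_bot]
  rfl

theorem exists_char [IsAlgClosed k] (P : Piece f) {y : Y} (hy : IsClosed ({y} : Set Y)) (hr : y ∈ Set.range P.j) :
    ∃ χ : P.B →ₐ[k] k, P.pt χ = y := by
  obtain ⟨q, rfl⟩ := hr
  have hq : IsClosed ({q} : Set (PrimeSpectrum P.B)) := by
    have h : IsClosed (P.j ⁻¹' {P.j q}) := hy.preimage P.j.continuous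
    rwa [show P.j ⁻¹' {P.j q} = {q} from Set.ext fun z => ⟨fun hz => P.j.isOpenEmbedding.injective hz,
      fun hz => congrArg P.j (Set.mem_singleton_iff.1 hz)⟩] at h
  haveI := (PrimeSpectrum.isClosed_singleton_iff_isMaximal q).1 hq
  obtain ⟨χ, hχ⟩ := exists_algHom_ker (k := k) q.asIdeal
  exact ⟨χ, congrArg P.j (PrimeSpectrum.ext ((asIdeal_comap_closedPoint χ).trans hχ))⟩

theorem pt_injective (P : Piece f) {χ χ' : P.B →ₐ[k] k} (h : P.pt χ = P.pt χ') : χ = χ' := by
  have h1 := congrArg PrimeSpectrum.asIdeal (P.j.isOpenEmbedding.injective h :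
    (PrimeSpectrum.comap χ.toRingHom (IsLocalRing.closedPoint k)) =
      PrimeSpectrum.comap χ'.toRingHom (IsLocalRing.closedPoint k))
  rw [asIdeal_comap_closedPoint, asIdeal_comap_closedPoint] at h1
  exact eq_of_ker_le h1.ge

/-- The ideal of a character. -/
theorem isFam_ker {B : Type u} [CommRing B] [Algebra k B] (χ : B →ₐ[k] k) : IsFam 1 (RingHom.ker (ev χ)) := by
  let π : ((k ⊗[k] B) ⧸ RingHom.ker (ev χ)) ≃ₐ[k] k :=
    Ideal.quotientKerAlgEquivOfSurjective (f := ev χ) fun c => ⟨algebraMap k _ c, (ev χ).commutes c⟩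
  haveI : Module.Finite k ((k ⊗[k] B) ⧸ RingHom.ker (ev χ)) := Module.Finite.equiv π.toLinearEquiv.symm
  exact isFam_of_finrank (by rw [π.toLinearEquiv.finrank_eq, Module.finrank_self])

namespace Piece

theorem fst_μ (P : Piece f) (p : PrimeSpectrum (k ⊗[k] P.B)) :
    pullback.fst f (TA (k := k) k).hom (P.μ k p) =
      P.j (PrimeSpectrum.comap (Algebra.TensorProduct.includeRight : P.B →ₐ[k] k ⊗[k] P.B).toRingHom p) := by
  rw [← Scheme.Hom.comp_apply, show P.μ k ≫ pullback.fst f (TA (k := k) k).hom = (P.chart 0).inclB k ≫ P.j from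
    (P.chart 0).μ_fst k, Scheme.Hom.comp_apply]
  rfl

theorem supp_ker (P : Piece f) (χ : P.B →ₐ[k] k) : P.supp (RingHom.ker (ev χ)) ⊆ {P.pt χ} := by
  rintro y ⟨p, hp, rfl⟩
  rw [Set.mem_singleton_iff, fst_μ]
  refine congrArg P.j (PrimeSpectrum.ext (Eq.trans ?_ (asIdeal_comap_closedPoint χ).symm))
  have hmax : (RingHom.ker (ev χ)).IsMaximal :=
    RingHom.ker_isMaximal_of_surjective (ev χ) fun c => ⟨algebraMap k _ c, (ev χ).commutes c⟩
  rw [PrimeSpectrum.comap_asIdeal, ← hmax.eq_of_le p.2.ne_top hp]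
  ext b
  simp [RingHom.mem_ker]

theorem mem_supp_of_le (P : Piece f) (χ : P.B →ₐ[k] k) {K : Ideal (k ⊗[k] P.B)} (h : K ≤ RingHom.ker (ev χ)) :
    P.pt χ ∈ P.supp K := by
  have hmax : (RingHom.ker (ev χ)).IsMaximal :=
    RingHom.ker_isMaximal_of_surjective (ev χ) fun c => ⟨algebraMap k _ c, (ev χ).commutes c⟩
  refine ⟨⟨_, hmax.isPrime⟩, h, ?_⟩
  rw [fst_μ]
  refine congrArg P.j (PrimeSpectrum.ext (Eq.trans ?_ (asIdeal_comap_closedPoint χ).symm))
  rw [PrimeSpectrum.comap_asIdeal]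
  ext b
  simp [RingHom.mem_ker]

theorem supp_isExt (P : Piece f) {n : ℕ} {a J : Ideal (k ⊗[k] P.B)} {χ : P.B →ₐ[k] k} (h : IsExt n a χ J) :
    P.supp J ⊆ P.supp a ∪ {P.pt χ} := by
  rintro y ⟨p, hp, rfl⟩
  by_cases ha : a ≤ p.asIdeal
  · exact Or.inl ⟨p, ha, rfl⟩
  · obtain ⟨t, ht, htp⟩ := SetLike.not_le_iff_exists.1 ha
    refine Or.inr (P.supp_ker χ ⟨p, fun r hr => ?_, rfl⟩)
    exact (p.2.mem_or_mem (hp (h.mul r hr t ht))).resolve_right htp

variable [IsSeparated f]

/-- An extension passes to a smaller piece. -/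
theorem change_isExt [IsAlgClosed k] [LocallyOfFiniteType f] {n : ℕ} {P P' : Piece f} (θ : P.B →ₐ[k] P'.B)
    (hθ : Spec.map (CommRingCat.ofHom θ.toRingHom) ≫ P.j = P'.j) {a J : Ideal (k ⊗[k] P.B)} {χ : P.B →ₐ[k] k}
    (h : IsExt n a χ J) (ha : P.supp a ⊆ Set.range P'.j) (hy : P.pt χ ∈ Set.range P'.j) :
    ∃ χ' : P'.B →ₐ[k] k, P'.pt χ' = P.pt χ ∧
      IsExt n (a.map (Algebra.TensorProduct.map (AlgHom.id k k) θ).toRingHom) χ'
        (J.map (Algebra.TensorProduct.map (AlgHom.id k k) θ).toRingHom) := by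
  obtain ⟨χ', hχ'⟩ := exists_char P' (pt_isClosed P χ) hy
  have e : χ'.comp θ = χ := pt_injective P (by
    rw [← hχ']
    show P.j (Spec.map (CommRingCat.ofHom (χ'.toRingHom.comp θ.toRingHom)) (IsLocalRing.closedPoint k)) =
      P'.j (Spec.map (CommRingCat.ofHom χ'.toRingHom) (IsLocalRing.closedPoint k))
    rw [CommRingCat.ofHom_comp, Spec.map_comp, Scheme.Hom.comp_apply, ← hθ, Scheme.Hom.comp_apply])
  have hJ : P.supp J ⊆ Set.range P'.j :=
    (P.supp_isExt h).trans (Set.union_subset ha (Set.singleton_subset_iff.2 hy))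
  let θk := (Algebra.TensorProduct.map (AlgHom.id k k) θ).toRingHom
  have hev : ∀ r, ev χ' (θk r) = ev χ r := fun r => by
    rw [← e]
    induction r using TensorProduct.induction_on with
    | zero => simp
    | tmul c b => simp [θk]
    | add u v hu hv => simp only [map_add, hu, hv]
  have hker : RingHom.ker (ev χ') = (RingHom.ker (ev χ)).map θk :=
    ((change_fam θ hθ (isFam_ker χ) ((P.supp_ker χ).trans (Set.singleton_subset_iff.2 hy))).1.eq_of_le (isFam_ker χ')
      (Ideal.map_le_iff_le_comap.2 fun r hr => by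
        rw [Ideal.mem_comap, RingHom.mem_ker, hev]; exact hr)).symm
  refine ⟨χ', hχ', (change_fam θ hθ h.fam₀ ha).1, (change_fam θ hθ h.fam₁ hJ).1, Ideal.map_mono h.le, fun r hr t ht => ?_⟩
  have hle : RingHom.ker (ev χ) * a ≤ J := Ideal.mul_le.2 fun x hx y hy => h.mul x hx y hy
  have h2 := Ideal.map_mono (f := θk) hle
  rw [Ideal.map_mul, ← hker] at h2
  exact h2 (Ideal.mul_mem_mul hr ht)

end Piece

section Lft

variable [IsSeparated f] [LocallyOfFiniteType f] {n : ℕ} {H : Over (Spec (CommRingCat.of k))} {Z : HilbD.Obj f n H}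
  (hH : HilbD.IsUniversal f n H Z)

theorem finiteType_chartRing {B : Type u} [CommRing B] [Algebra k B] [Algebra.FiniteType k B] (s : Fin n → B) :
    Algebra.FiniteType k (ChartRing k B s) := by
  classical
  obtain ⟨S, hS⟩ := Algebra.FiniteType.out (R := k) (A := B)
  let c := (univCoord k B s).c
  let S' : Finset B := insert 1 (S ∪ (Finset.univ.image fun i => s i) ∪
    ((S ×ˢ (Finset.univ : Finset (Fin n))).image fun p => p.1 * s p.2) ∪
    ((Finset.univ : Finset (Fin n × Fin n)).image fun p => s p.1 * s p.2))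
  let G : Finset (ChartRing k B s) := (S' ×ˢ (Finset.univ : Finset (Fin n))).image fun p => c p.1 p.2
  have hG : ∀ b ∈ S', ∀ j, c b j ∈ Algebra.adjoin k (G : Set (ChartRing k B s)) := fun b hb j =>
    Algebra.subset_adjoin (Finset.mem_image.2 ⟨(b, j), Finset.mem_product.2 ⟨hb, Finset.mem_univ _⟩, rfl⟩)
  have hss : ∀ i l j, c (s i * s l) j ∈ Algebra.adjoin k (G : Set (ChartRing k B s)) := fun i l j =>
    hG _ (Finset.mem_insert_of_mem (Finset.mem_union_right _
      (Finset.mem_image.2 ⟨(i, l), Finset.mem_univ _, rfl⟩))) j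
  have hall : ∀ b : B, (∀ j, c b j ∈ Algebra.adjoin k (G : Set (ChartRing k B s))) ∧
      ∀ i j, c (b * s i) j ∈ Algebra.adjoin k (G : Set (ChartRing k B s)) := by
    intro b
    have hb : b ∈ Algebra.adjoin k (S : Set B) := hS ▸ trivial
    induction hb using Algebra.adjoin_induction with
    | mem x hx =>
      exact ⟨hG x (Finset.mem_insert_of_mem (Finset.mem_union_left _ (Finset.mem_union_left _
          (Finset.mem_union_left _ hx)))),
        fun i => hG _ (Finset.mem_insert_of_mem (Finset.mem_union_left _ (Finset.mem_union_right _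
          (Finset.mem_image.2 ⟨(x, i), Finset.mem_product.2 ⟨hx, Finset.mem_univ _⟩, rfl⟩))))⟩
    | algebraMap r =>
      refine ⟨fun j => ?_, fun i j => ?_⟩
      · rw [Algebra.algebraMap_eq_smul_one, map_smul, Pi.smul_apply]
        exact Subalgebra.smul_mem _ (hG 1 (Finset.mem_insert_self _ _) j) r
      · rw [Algebra.algebraMap_eq_smul_one, smul_one_mul, map_smul, Pi.smul_apply]
        exact Subalgebra.smul_mem _ (hG _ (Finset.mem_insert_of_mem (Finset.mem_union_left _ (Finset.mem_union_left _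
          (Finset.mem_union_right _ (Finset.mem_image.2 ⟨i, Finset.mem_univ _, rfl⟩))))) j) r
    | add x y _ _ hx hy =>
      exact ⟨fun j => by rw [map_add, Pi.add_apply]; exact add_mem (hx.1 j) (hy.1 j),
        fun i j => by rw [add_mul, map_add, Pi.add_apply]; exact add_mem (hx.2 i j) (hy.2 i j)⟩
    | mul x y _ _ hx hy =>
      refine ⟨fun j => ?_, fun i j => ?_⟩
      · rw [(univCoord k B s).mul]
        exact Subalgebra.sum_mem _ fun l _ => mul_mem (hx.1 l) (hy.2 l j)
      · rw [mul_assoc, (univCoord k B s).mul]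
        refine Subalgebra.sum_mem _ fun l _ => mul_mem (hx.1 l) ?_
        rw [(univCoord k B s).mul]
        exact Subalgebra.sum_mem _ fun m _ => mul_mem (hy.2 i m) (hss l m j)
  refine ⟨⟨G, eq_top_iff.2 fun x hx => ?_⟩⟩
  clear hx
  obtain ⟨q, rfl⟩ := Ideal.Quotient.mk_surjective x
  induction q using MvPolynomial.induction_on with
  | C r => exact Subalgebra.algebraMap_mem _ r
  | add p q hp hq => rw [map_add]; exact add_mem hp hq
  | mul_X p b hp => rw [map_mul]; exact mul_mem hp ((hall b.1).1 b.2)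

end Lft

end Groth.L11.HilbConn
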