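import Mathlib.RingTheory.TensorProduct.Maps
import Mathlib.RingTheory.Ideal.Quotient.Operations
import Mathlib.RingTheory.Spectrum.Prime.FreeLocus
import Mathlib.RingTheory.Finiteness.Projective
import Mathlib.RingTheory.Finiteness.Prod
import Mathlib.Algebra.Polynomial.Eval.Defs
import Mathlib.Algebra.Polynomial.AlgebraMap
import Mathlib.LinearAlgebra.Dual.Lemmas
import Mathlib.Algebra.Module.Projective

/-!
# Families of ideals of fixed colength in `A ⊗ B` and their extensions by a point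

An ideal `K` of `A ⊗[k] B` whose quotient is finite projective of rank `n` over `A`; ideals of
colength one more obtained from a surjection `K → A` which is linear along a point of `B`.
-/

set_option autoImplicit false
set_option linter.style.haveILetI false
set_option backward.isDefEq.respectTransparency false
set_option backward.isDefEq.respectTransparency.types false

universe u

open scoped TensorProduct
open Module

noncomputable section

namespace Groth.L11.HilbConn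

variable {k : Type u} [Field k] {B : Type u} [CommRing B] [Algebra k B]
variable {A A' A'' : Type u} [CommRing A] [Algebra k A] [CommRing A'] [Algebra k A'] [CommRing A''] [Algebra k A'']

/-- Change of the parameter ring. -/
abbrev tmap (B : Type u) [CommRing B] [Algebra k B] (φ : A →ₐ[k] A') : A ⊗[k] B →ₐ[k] A' ⊗[k] B :=
  Algebra.TensorProduct.map φ (AlgHom.id k B)

theorem tmap_tmap (φ : A →ₐ[k] A') (ψ : A' →ₐ[k] A'') (t : A ⊗[k] B) :
    tmap B ψ (tmap B φ t) = tmap B (ψ.comp φ) t := by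
  induction t using TensorProduct.induction_on with
  | zero => simp only [map_zero]
  | tmul a b => simp
  | add u v hu hv => simp only [map_add, hu, hv]

theorem map_tmap_tmap (φ : A →ₐ[k] A') (ψ : A' →ₐ[k] A'') (K : Ideal (A ⊗[k] B)) :
    (K.map (tmap B φ)).map (tmap B ψ) = K.map (tmap B (ψ.comp φ)) := by
  refine le_antisymm (Ideal.map_le_iff_le_comap.2 (Ideal.map_le_iff_le_comap.2 fun t ht => ?_))
    (Ideal.map_le_iff_le_comap.2 fun t ht => ?_)
  · simp only [Ideal.mem_comap, tmap_tmap]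
    exact Ideal.mem_map_of_mem _ ht
  · rw [Ideal.mem_comap, ← tmap_tmap]
    exact Ideal.mem_map_of_mem _ (Ideal.mem_map_of_mem _ ht)

/-- A family of ideals of colength `n`. -/
structure IsFam (n : ℕ) (K : Ideal (A ⊗[k] B)) : Prop where
  fin : Module.Finite A ((A ⊗[k] B) ⧸ K)
  proj : Module.Projective A ((A ⊗[k] B) ⧸ K)
  rank : ∀ p, Module.rankAtStalk (R := A) ((A ⊗[k] B) ⧸ K) p = n

theorem IsFam.map {n : ℕ} {K : Ideal (A ⊗[k] B)} (hK : IsFam n K) (φ : A →ₐ[k] A') :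
    IsFam n (K.map (tmap B φ)) := by
  letI : Algebra A A' := φ.toRingHom.toAlgebra
  haveI : IsScalarTower k A A' := IsScalarTower.of_algebraMap_eq fun r => (φ.commutes r).symm
  haveI := hK.fin; haveI := hK.proj
  let K' := K.map (tmap B φ)
  let T := (A' ⊗[k] B) ⧸ K'
  let g₀ : A' ⊗[k] B →ₐ[A'] A' ⊗[A] ((A ⊗[k] B) ⧸ K) := Algebra.TensorProduct.lift Algebra.TensorProduct.includeLeft
    (((Algebra.TensorProduct.includeRight : ((A ⊗[k] B) ⧸ K) →ₐ[A] A' ⊗[A] ((A ⊗[k] B) ⧸ K)).restrictScalars k).comp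
      ((Ideal.Quotient.mkₐ k K).comp Algebra.TensorProduct.includeRight)) (fun _ _ => Commute.all (S := A' ⊗[A] ((A ⊗[k] B) ⧸ K)) _ _)
  have hg₀ : ∀ t : A ⊗[k] B, g₀ (tmap B φ t) = (1 : A') ⊗ₜ[A] Ideal.Quotient.mk K t := fun t => by
    induction t using TensorProduct.induction_on with
    | zero => simp
    | tmul a b =>
      have e : a ⊗ₜ[k] b = a • ((1 : A) ⊗ₜ[k] b) := by rw [TensorProduct.smul_tmul', smul_eq_mul, mul_one]
      have e' : Ideal.Quotient.mk K (a ⊗ₜ[k] b) = a • Ideal.Quotient.mk K ((1 : A) ⊗ₜ[k] b) := by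
        rw [← Ideal.Quotient.mkₐ_eq_mk A, ← map_smul, ← e]
      rw [e', TensorProduct.tmul_smul, TensorProduct.smul_tmul']
      simp [g₀, Algebra.smul_def, RingHom.algebraMap_toAlgebra]
    | add u v hu hv => simp only [map_add, hu, hv, TensorProduct.tmul_add]
  let G : T →ₐ[A'] A' ⊗[A] ((A ⊗[k] B) ⧸ K) := Ideal.Quotient.liftₐ K' g₀ (fun t ht => by
    induction ht using Submodule.span_induction with
    | mem y hy =>
      obtain ⟨x, hx, rfl⟩ := hy
      rw [hg₀, Ideal.Quotient.eq_zero_iff_mem.2 hx, TensorProduct.tmul_zero]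
    | zero => simp
    | add u v _ _ hu hv => rw [map_add, hu, hv, add_zero]
    | smul r y _ hy => rw [smul_eq_mul, map_mul, hy, mul_zero])
  let tA : A ⊗[k] B →ₐ[A] A' ⊗[k] B := Algebra.TensorProduct.map (Algebra.ofId A A') (AlgHom.id k B)
  have htA : ∀ t, tA t = tmap B φ t := fun t => by
    induction t using TensorProduct.induction_on with
    | zero => simp
    | tmul a b => simp [tA, RingHom.algebraMap_toAlgebra]
    | add u v hu hv => simp only [map_add, hu, hv]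
  let f : ((A ⊗[k] B) ⧸ K) →ₐ[A] T := Ideal.Quotient.liftₐ K ((Ideal.Quotient.mkₐ A K').comp tA) (fun t ht => by
    show Ideal.Quotient.mk K' (tA t) = 0
    rw [Ideal.Quotient.eq_zero_iff_mem, htA]
    exact Ideal.mem_map_of_mem _ ht)
  let F : A' ⊗[A] ((A ⊗[k] B) ⧸ K) →ₐ[A'] T := Algebra.TensorProduct.lift (Algebra.ofId A' T) f (fun _ _ => Commute.all _ _)
  have hf : ∀ t, f (Ideal.Quotient.mk K t) = Ideal.Quotient.mk K' (tmap B φ t) := fun t => by
    show Ideal.Quotient.mk K' (tA t) = _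
    rw [htA]
  have h1 : ∀ t, F (G (Ideal.Quotient.mk K' t)) = Ideal.Quotient.mk K' t := fun t => by
    show F (g₀ t) = _
    induction t using TensorProduct.induction_on with
    | zero => simp
    | tmul a b =>
      have e : g₀ (a ⊗ₜ[k] b) = a ⊗ₜ[A] Ideal.Quotient.mk K ((1 : A) ⊗ₜ[k] b) := by simp [g₀]
      rw [e]
      show algebraMap A' T a * f (Ideal.Quotient.mk K ((1 : A) ⊗ₜ[k] b)) = _
      rw [hf]
      show Ideal.Quotient.mk K' (algebraMap A' (A' ⊗[k] B) a) * _ = _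
      rw [← map_mul]
      simp
    | add u v hu hv => simp only [map_add, hu, hv]
  have h2 : ∀ z, G (F z) = z := fun z => by
    induction z using TensorProduct.induction_on with
    | zero => simp
    | tmul a q =>
      obtain ⟨t, rfl⟩ := Ideal.Quotient.mk_surjective q
      show G (algebraMap A' T a * f (Ideal.Quotient.mk K t)) = _
      rw [map_mul, AlgHom.commutes, hf]
      show _ * g₀ (tmap B φ t) = _
      rw [hg₀]
      simp
    | add u v hu hv => simp only [map_add, hu, hv]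
  let e : A' ⊗[A] ((A ⊗[k] B) ⧸ K) ≃ₐ[A'] T := AlgEquiv.ofBijective F
    ⟨Function.LeftInverse.injective h2, fun q => by
      obtain ⟨t, rfl⟩ := Ideal.Quotient.mk_surjective q
      exact ⟨_, h1 t⟩⟩
  refine ⟨Module.Finite.equiv e.toLinearEquiv, Module.Projective.of_equiv e.toLinearEquiv, fun p => ?_⟩
  rw [← Module.rankAtStalk_eq_of_equiv e.toLinearEquiv, Module.rankAtStalk_baseChange]
  exact hK.rank _

theorem IsFam.finrank_eq {n : ℕ} {K : Ideal (k ⊗[k] B)} (hK : IsFam n K) :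
    Module.finrank k ((k ⊗[k] B) ⧸ K) = n := by
  haveI := hK.fin
  rw [← hK.rank (Classical.arbitrary _), Module.rankAtStalk_eq_finrank_of_free]
  rfl

theorem isFam_of_finrank {n : ℕ} {K : Ideal (k ⊗[k] B)} [Module.Finite k ((k ⊗[k] B) ⧸ K)]
    (h : Module.finrank k ((k ⊗[k] B) ⧸ K) = n) : IsFam n K :=
  ⟨inferInstance, inferInstance, fun p => by rw [Module.rankAtStalk_eq_finrank_of_free]; exact h⟩

theorem IsFam.eq_of_le {n : ℕ} {J J' : Ideal (k ⊗[k] B)} (hJ : IsFam n J) (hJ' : IsFam n J') (h : J ≤ J') :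
    J = J' := by
  haveI := hJ.fin; haveI := hJ'.fin
  let π : ((k ⊗[k] B) ⧸ J) →ₐ[k] (k ⊗[k] B) ⧸ J' :=
    Ideal.Quotient.liftₐ J (Ideal.Quotient.mkₐ k J') fun t ht => Ideal.Quotient.eq_zero_iff_mem.2 (h ht)
  have hsurj : Function.Surjective π.toLinearMap := fun q => by
    obtain ⟨t, rfl⟩ := Ideal.Quotient.mk_surjective q
    exact ⟨Ideal.Quotient.mk J t, rfl⟩
  have hinj := (LinearMap.injective_iff_surjective_of_finrank_eq_finrank
    (hJ.finrank_eq.trans hJ'.finrank_eq.symm)).2 hsurj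
  refine le_antisymm h fun t ht => Ideal.Quotient.eq_zero_iff_mem.1 (hinj ?_)
  rw [map_zero]
  exact Ideal.Quotient.eq_zero_iff_mem.2 ht

/-- Evaluation at a family of points. -/
def ev (X : B →ₐ[k] A) : A ⊗[k] B →ₐ[A] A :=
  Algebra.TensorProduct.lift (AlgHom.id A A) X fun _ _ => Commute.all _ _

@[simp] theorem ev_tmul (X : B →ₐ[k] A) (a : A) (b : B) : ev X (a ⊗ₜ[k] b) = a * X b := by simp [ev]

theorem ev_tmap (φ : A →ₐ[k] A') (X : B →ₐ[k] A) (t : A ⊗[k] B) :
    ev (φ.comp X) (tmap B φ t) = φ (ev X t) := by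
  induction t using TensorProduct.induction_on with
  | zero => simp
  | tmul a b => simp
  | add u v hu hv => simp only [map_add, hu, hv]

/-- The constant family. -/
abbrev constFam (A : Type u) [CommRing A] [Algebra k A] (a : Ideal (k ⊗[k] B)) : Ideal (A ⊗[k] B) :=
  a.map (tmap B (Algebra.ofId k A))

theorem constFam_map (φ : A →ₐ[k] k) (a : Ideal (k ⊗[k] B)) : (constFam A a).map (tmap B φ) = a := by
  rw [constFam, map_tmap_tmap, Subsingleton.elim (φ.comp (Algebra.ofId k A)) (AlgHom.id k k)]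
  have h : ∀ t : k ⊗[k] B, tmap B (AlgHom.id k k) t = t := fun t => by
    rw [tmap, Algebra.TensorProduct.map_id]; rfl
  refine le_antisymm (Ideal.map_le_iff_le_comap.2 fun t ht => ?_) fun t ht => ?_
  · rw [Ideal.mem_comap, h]; exact ht
  · rw [← h t]; exact Ideal.mem_map_of_mem _ ht

theorem tmap_surjective (φ : A →ₐ[k] k) : Function.Surjective (tmap B φ) := fun t =>
  ⟨tmap B (Algebra.ofId k A) t, by
    rw [tmap_tmap, Subsingleton.elim (φ.comp (Algebra.ofId k A)) (AlgHom.id k k), tmap,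
      Algebra.TensorProduct.map_id]
    rfl⟩

/-- `J` is an extension of `a` by the point `χ`. -/
structure IsExt (n : ℕ) (a : Ideal (k ⊗[k] B)) (χ : B →ₐ[k] k) (J : Ideal (k ⊗[k] B)) : Prop where
  fam₀ : IsFam n a
  fam₁ : IsFam (n + 1) J
  le : J ≤ a
  mul : ∀ r, ev χ r = 0 → ∀ t ∈ a, r * t ∈ J

/-- A surjection `K → A`, linear along `X`, cuts out a family of colength one more. -/
theorem exists_ext {n : ℕ} {K : Ideal (A ⊗[k] B)} (hK : IsFam n K) (X : B →ₐ[k] A) (ψ : ↥K → A)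
    (hadd : ∀ s t, ψ (s + t) = ψ s + ψ t)
    (hsmul : ∀ (r : A ⊗[k] B) (t : ↥K), ψ (r • t) = ev X r * ψ t) (h1 : ∃ t, ψ t = 1) :
    ∃ K' : Ideal (A ⊗[k] B), IsFam (n + 1) K' ∧ K' ≤ K ∧
      (∀ r, ev X r = 0 → ∀ t ∈ K, r * t ∈ K') ∧ ∀ t (ht : t ∈ K), t ∈ K' ↔ ψ ⟨t, ht⟩ = 0 := by
  obtain ⟨t₁, ht₁⟩ := h1
  have h0 : ψ 0 = 0 := by
    have := hadd 0 0
    rw [add_zero] at this
    simpa using this
  let K' : Ideal (A ⊗[k] B) :=
    { carrier := {t | ∃ ht : t ∈ K, ψ ⟨t, ht⟩ = 0}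
      add_mem' := fun {a b} ⟨ha, ha'⟩ ⟨hb, hb'⟩ => ⟨add_mem ha hb, by
        have := hadd ⟨a, ha⟩ ⟨b, hb⟩
        rw [ha', hb', add_zero] at this
        exact this⟩
      zero_mem' := ⟨zero_mem _, h0⟩
      smul_mem' := fun r t ⟨ht, ht'⟩ => ⟨K.smul_mem r ht, by
        have := hsmul r ⟨t, ht⟩
        rw [ht', mul_zero] at this
        exact this⟩ }
  have hle : K' ≤ K := fun t ⟨ht, _⟩ => ht
  have hmem : ∀ t (ht : t ∈ K), t ∈ K' ↔ ψ ⟨t, ht⟩ = 0 := fun t ht => ⟨fun ⟨_, h⟩ => h, fun h => ⟨ht, h⟩⟩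
  refine ⟨K', ?_, hle, fun r hr t ht => (hmem _ (K.mul_mem_left r ht)).2 ?_, hmem⟩
  · haveI := hK.fin; haveI := hK.proj
    let π : ((A ⊗[k] B) ⧸ K') →ₐ[A] (A ⊗[k] B) ⧸ K :=
      Ideal.Quotient.liftₐ K' (Ideal.Quotient.mkₐ A K) fun t ht => Ideal.Quotient.eq_zero_iff_mem.2 (hle ht)
    have hπ : Function.Surjective π.toLinearMap := fun q => by
      obtain ⟨t, rfl⟩ := Ideal.Quotient.mk_surjective q
      exact ⟨Ideal.Quotient.mk K' t, rfl⟩
    obtain ⟨σ, hσ⟩ := Module.projective_lifting_property π.toLinearMap LinearMap.id hπ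
    have hπσ : ∀ q, π (σ q) = q := fun q => LinearMap.congr_fun hσ q
    have hπt : π (Ideal.Quotient.mk K' t₁.1) = 0 := Ideal.Quotient.eq_zero_iff_mem.2 t₁.2
    let L : A × ((A ⊗[k] B) ⧸ K) →ₗ[A] (A ⊗[k] B) ⧸ K' :=
      (LinearMap.toSpanSingleton A _ (Ideal.Quotient.mk K' t₁.1)).coprod σ
    have hψa : ∀ (a : A) (t : ↥K), ψ (algebraMap A (A ⊗[k] B) a • t) = a * ψ t := fun a t => by
      rw [hsmul, AlgHom.commutes]; rfl
    have hL : Function.Bijective L := by
      constructor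
      · rw [injective_iff_map_eq_zero]
        rintro ⟨a, q⟩ h
        have h' : a • Ideal.Quotient.mk K' t₁.1 + σ q = 0 := h
        have hq : q = 0 := by
          have := congrArg π h'
          rwa [map_add, map_smul, hπt, smul_zero, zero_add, hπσ, map_zero] at this
        subst hq
        rw [map_zero, add_zero, ← Ideal.Quotient.mkₐ_eq_mk A, ← map_smul, Ideal.Quotient.mkₐ_eq_mk,
          Ideal.Quotient.eq_zero_iff_mem, Algebra.smul_def] at h'
        have h2 := (hmem _ (K.mul_mem_left _ t₁.2)).1 h'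
        have h3 := hψa a t₁
        rw [show algebraMap A (A ⊗[k] B) a • t₁ = (⟨_, K.mul_mem_left (algebraMap A _ a) t₁.2⟩ : ↥K) from rfl,
          h2, ht₁, mul_one] at h3
        rw [← h3]; rfl
      · intro y
        obtain ⟨s, hs⟩ := Ideal.Quotient.mk_surjective (y - σ (π y))
        have hsK : s ∈ K := by
          have h' : π (Ideal.Quotient.mk K' s) = 0 := by rw [hs, map_sub, hπσ, sub_self]
          exact Ideal.Quotient.eq_zero_iff_mem.1 h'
        refine ⟨(ψ ⟨s, hsK⟩, π y), ?_⟩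
        show ψ ⟨s, hsK⟩ • Ideal.Quotient.mk K' t₁.1 + σ (π y) = y
        rw [← eq_sub_iff_add_eq, ← hs, ← Ideal.Quotient.mkₐ_eq_mk A, ← map_smul, Ideal.Quotient.mkₐ_eq_mk,
          Ideal.Quotient.eq, Algebra.smul_def]
        have hm : algebraMap A (A ⊗[k] B) (ψ ⟨s, hsK⟩) * t₁.1 - s ∈ K := sub_mem (K.mul_mem_left _ t₁.2) hsK
        refine (hmem _ hm).2 ?_
        have h4 := hadd ⟨_, hm⟩ ⟨s, hsK⟩
        have h5 := hψa (ψ ⟨s, hsK⟩) t₁
        rw [ht₁, mul_one] at h5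
        have h6 : (⟨_, hm⟩ + ⟨s, hsK⟩ : ↥K) = algebraMap A (A ⊗[k] B) (ψ ⟨s, hsK⟩) • t₁ :=
          Subtype.ext (sub_add_cancel _ _)
        rw [h6, h5] at h4
        simpa using h4
    let e := LinearEquiv.ofBijective L hL
    refine ⟨Module.Finite.equiv e, Module.Projective.of_equiv e, fun p => ?_⟩
    haveI : Nontrivial A := PrimeSpectrum.nonempty_iff_nontrivial.1 ⟨p⟩
    rw [← Module.rankAtStalk_eq_of_equiv e, Module.rankAtStalk_prod, Pi.add_apply, hK.rank,
      Module.rankAtStalk_eq_finrank_of_free]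
    simp [Module.finrank_self, add_comm]
  · have := hsmul r ⟨t, ht⟩
    rw [hr, zero_mul] at this
    exact this

/-- The fibre of an extension family is an extension. -/
theorem isExt_map {n : ℕ} {K K' : Ideal (A ⊗[k] B)} (hK : IsFam n K) (hK' : IsFam (n + 1) K') (hle : K' ≤ K)
    (X : B →ₐ[k] A) (hmul : ∀ r, ev X r = 0 → ∀ t ∈ K, r * t ∈ K') (φ : A →ₐ[k] k) :
    IsExt n (K.map (tmap B φ)) (φ.comp X) (K'.map (tmap B φ)) := by
  refine ⟨hK.map φ, hK'.map φ, Ideal.map_mono hle, fun r hr t ht => ?_⟩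
  obtain ⟨t₀, ht₀, rfl⟩ := (Ideal.mem_map_iff_of_surjective _ (tmap_surjective φ)).1 ht
  obtain ⟨r₀, rfl⟩ := tmap_surjective φ r
  rw [ev_tmap] at hr
  have h1 : ev X (r₀ - algebraMap A _ (ev X r₀)) = 0 := by
    rw [map_sub, AlgHom.commutes]; exact sub_self _
  have h2 := Ideal.mem_map_of_mem (tmap B φ) (hmul _ h1 _ ht₀)
  rw [map_mul, map_sub] at h2
  have h3 : tmap B φ (algebraMap A (A ⊗[k] B) (ev X r₀)) = 0 := by simp [hr]
  rw [h3, sub_zero] at h2
  exact h2

theorem exists_functional {n : ℕ} {a J : Ideal (k ⊗[k] B)} {χ : B →ₐ[k] k} (h : IsExt n a χ J) :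
    ∃ ℓ : (k ⊗[k] B) →ₗ[k] k, (∀ t ∈ a, ℓ t = 0 ↔ t ∈ J) ∧
      ∀ r, ∀ t ∈ a, ℓ (r * t) = ev χ r * ℓ t := by
  haveI := h.fam₀.fin; haveI := h.fam₁.fin
  let π : ((k ⊗[k] B) ⧸ J) →ₐ[k] (k ⊗[k] B) ⧸ a :=
    Ideal.Quotient.liftₐ J (Ideal.Quotient.mkₐ k a) fun t ht => Ideal.Quotient.eq_zero_iff_mem.2 (h.le ht)
  have hπ : Function.Surjective π.toLinearMap := fun q => by
    obtain ⟨t, rfl⟩ := Ideal.Quotient.mk_surjective q
    exact ⟨Ideal.Quotient.mk J t, rfl⟩
  have hker : Module.finrank k (LinearMap.ker π.toLinearMap) = 1 := by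
    have := π.toLinearMap.finrank_range_add_finrank_ker
    rw [LinearMap.range_eq_top.2 hπ, finrank_top, h.fam₀.finrank_eq, h.fam₁.finrank_eq] at this
    omega
  obtain ⟨⟨v, hv⟩, hv0, hspan⟩ := finrank_eq_one_iff'.1 hker
  have hv0' : v ≠ 0 := fun e => hv0 (Subtype.ext e)
  obtain ⟨f, hf⟩ := LinearMap.exists_extend_of_notMem (p := (⊥ : Submodule k ((k ⊗[k] B) ⧸ J))) 0
    (v := v) (by simpa using hv0') (1 : k)
  let ℓ : (k ⊗[k] B) →ₗ[k] k := f ∘ₗ (Ideal.Quotient.mkₐ k J).toLinearMap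
  have hzero : ∀ t ∈ J, ℓ t = 0 := fun t ht => by
    show f (Ideal.Quotient.mk J t) = 0
    rw [Ideal.Quotient.eq_zero_iff_mem.2 ht, map_zero]
  refine ⟨ℓ, fun t ht => ⟨fun h0 => ?_, hzero t⟩, fun r t ht => ?_⟩
  · have hm : Ideal.Quotient.mk J t ∈ LinearMap.ker π.toLinearMap := Ideal.Quotient.eq_zero_iff_mem.2 ht
    obtain ⟨c, hc⟩ := hspan ⟨_, hm⟩
    have hc' : c • v = Ideal.Quotient.mk J t := congrArg Subtype.val hc
    have : c = 0 := by
      have h' : f (Ideal.Quotient.mk J t) = 0 := h0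
      rwa [← hc', map_smul, hf.2, smul_eq_mul, mul_one] at h'
    rw [this, zero_smul] at hc'
    exact Ideal.Quotient.eq_zero_iff_mem.1 hc'.symm
  · have h1 : (r - algebraMap k _ (ev χ r)) * t ∈ J := h.mul _ (by
      rw [map_sub, AlgHom.commutes]; exact sub_self _) t ht
    have h2 := hzero _ h1
    rw [sub_mul, map_sub, ← Algebra.smul_def, map_smul, sub_eq_zero] at h2
    exact h2

set_option maxHeartbeats 1000000 in
set_option synthInstance.maxHeartbeats 200000 in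
/-- Two extensions by the same point are fibres of a family over the line. -/
theorem exists_line {n : ℕ} {a J₁ J₂ : Ideal (k ⊗[k] B)} {χ : B →ₐ[k] k} (h₁ : IsExt n a χ J₁)
    (h₂ : IsExt n a χ J₂) (hne : J₁ ≠ J₂) :
    ∃ K : Ideal (Polynomial k ⊗[k] B), IsFam (n + 1) K ∧
      ∃ φ₁ φ₂ : Polynomial k →ₐ[k] k, K.map (tmap B φ₁) = J₁ ∧ K.map (tmap B φ₂) = J₂ := by
  obtain ⟨ℓ₁, hℓ₁, hs₁⟩ := exists_functional h₁
  obtain ⟨ℓ₂, hℓ₂, hs₂⟩ := exists_functional h₂
  obtain ⟨u, hu, hu₂⟩ := SetLike.not_le_iff_exists.1 fun hle => hne (h₁.fam₁.eq_of_le h₂.fam₁ hle)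
  obtain ⟨w, hw, hw₁⟩ := SetLike.not_le_iff_exists.1 fun hle => hne (h₂.fam₁.eq_of_le h₁.fam₁ hle).symm
  have eu : ℓ₁ u = 0 := (hℓ₁ u (h₁.le hu)).2 hu
  have ew : ℓ₂ w = 0 := (hℓ₂ w (h₂.le hw)).2 hw
  have eu' : ℓ₂ u ≠ 0 := fun e => hu₂ ((hℓ₂ u (h₁.le hu)).1 e)
  have ew' : ℓ₁ w ≠ 0 := fun e => hw₁ ((hℓ₁ w (h₂.le hw)).1 e)
  let t₀ := (ℓ₁ w)⁻¹ • w + (ℓ₂ u)⁻¹ • u
  have ht₀ : t₀ ∈ a := add_mem (Submodule.smul_of_tower_mem _ _ (h₂.le hw)) (Submodule.smul_of_tower_mem _ _ (h₁.le hu))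
  let X : B →ₐ[k] (Polynomial k) := (Algebra.ofId k (Polynomial k)).comp χ
  let m : (k ⊗[k] B) →ₗ[k] (Polynomial k) :=
    (1 - Polynomial.X : (Polynomial k)) • ((Algebra.linearMap k (Polynomial k)) ∘ₗ ℓ₁) + (Polynomial.X : (Polynomial k)) • ((Algebra.linearMap k (Polynomial k)) ∘ₗ ℓ₂)
  have hm : ∀ t, m t = (1 - Polynomial.X) * Polynomial.C (ℓ₁ t) + Polynomial.X * Polynomial.C (ℓ₂ t) := fun t => rfl
  let Ψ : Polynomial k ⊗[k] B →ₗ[Polynomial k] Polynomial k :=
    (m ∘ₗ (Algebra.TensorProduct.includeRight : B →ₐ[k] k ⊗[k] B).toLinearMap).liftBaseChange (Polynomial k)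
  have hΨ : ∀ t, Ψ (tmap B (Algebra.ofId k (Polynomial k)) t) = m t := fun t => by
    induction t using TensorProduct.induction_on with
    | zero => simp
    | tmul c b =>
      have e : c ⊗ₜ[k] b = c • ((1 : k) ⊗ₜ[k] b) := by rw [TensorProduct.smul_tmul', smul_eq_mul, mul_one]
      rw [e, map_smul (tmap B (Algebra.ofId k (Polynomial k))), map_smul m,
        ← IsScalarTower.algebraMap_smul (Polynomial k) c (tmap B (Algebra.ofId k (Polynomial k)) _), map_smul Ψ,
        IsScalarTower.algebraMap_smul]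
      simp [Ψ]
    | add s v hs hv => simp only [map_add, hs, hv]
  have hsemi : ∀ t ∈ constFam (Polynomial k) a, ∀ r, Ψ (r * t) = ev X r * Ψ t := by
    intro t ht
    induction ht using Submodule.span_induction with
    | mem y hy =>
      obtain ⟨y₀, hy₀, rfl⟩ := hy
      intro r
      induction r using TensorProduct.induction_on with
      | zero => simp
      | tmul c b =>
        have e : (c ⊗ₜ[k] b) * tmap B (Algebra.ofId k (Polynomial k)) y₀ =
            c • tmap B (Algebra.ofId k (Polynomial k)) (((1 : k) ⊗ₜ[k] b) * y₀) := by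
          rw [map_mul, ← smul_mul_assoc]
          simp [TensorProduct.smul_tmul']
        rw [e, map_smul, hΨ, hΨ, hm, hm, hs₁ _ _ hy₀, hs₂ _ _ hy₀, ev_tmul, ev_tmul]
        simp only [one_mul, map_mul, smul_eq_mul, X, AlgHom.coe_comp, Function.comp_apply, Algebra.ofId_apply]
        simp only [← Polynomial.C_eq_algebraMap]
        ring
      | add s v hs hv => simp only [add_mul, map_add, hs, hv]
    | zero => simp
    | add s v _ _ hs hv => intro r; simp only [mul_add, map_add, hs, hv]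
    | smul s y _ hy =>
      intro r
      rw [smul_eq_mul, show r * (s * y) = r * s * y by ring, hy, hy, map_mul]
      ring
  obtain ⟨K', hK', hle, -, hiff⟩ := exists_ext (h₁.fam₀.map (Algebra.ofId k (Polynomial k))) X (fun t => Ψ t.1)
    (fun s t => map_add Ψ s.1 t.1) (fun r t => hsemi _ t.2 r)
    ⟨⟨_, Ideal.mem_map_of_mem _ ht₀⟩, by
      show Ψ (tmap B (Algebra.ofId k (Polynomial k)) t₀) = 1
      rw [hΨ, hm]
      simp [t₀, eu, ew, eu', ew']⟩
  have key : ∀ (c : k) (J : Ideal (k ⊗[k] B)) (ℓ : (k ⊗[k] B) →ₗ[k] k), IsFam (n + 1) J →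
      (∀ t ∈ a, ℓ t = 0 ↔ t ∈ J) → (∀ t, (1 - c) * ℓ₁ t + c * ℓ₂ t = ℓ t) →
      K'.map (tmap B (Polynomial.aeval c)) = J := fun c J ℓ hJ hℓ hcl => by
    refine (hK'.map _).eq_of_le hJ (Ideal.map_le_iff_le_comap.2 fun t ht => ?_)
    have hta : tmap B (Polynomial.aeval c) t ∈ a := by
      have := Ideal.mem_map_of_mem (tmap B (Polynomial.aeval c)) (hle ht)
      rwa [constFam_map] at this
    rw [Ideal.mem_comap, ← hℓ _ hta]
    have h0 : Ψ t = 0 := (hiff t (hle ht)).1 ht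
    have hcomp : ∀ s : (Polynomial k) ⊗[k] B, ℓ (tmap B (Polynomial.aeval c) s) = Polynomial.aeval c (Ψ s) := fun s => by
      induction s using TensorProduct.induction_on with
      | zero => simp
      | tmul p b =>
        have e : tmap B (Polynomial.aeval c) (p ⊗ₜ[k] b) = Polynomial.aeval c p • ((1 : k) ⊗ₜ[k] b) := by
          simp [TensorProduct.smul_tmul']
        rw [e, map_smul, ← hcl]
        simp [Ψ, hm]
        exact Or.inl (mul_comm _ _)
      | add s v hs hv => simp only [map_add, hs, hv]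
    rw [hcomp, h0, map_zero]
  exact ⟨K', hK', Polynomial.aeval 0, Polynomial.aeval 1, key 0 J₁ ℓ₁ h₁.fam₁ hℓ₁ (by simp),
    key 1 J₂ ℓ₂ h₂.fam₁ hℓ₂ (by simp)⟩

end Groth.L11.HilbConn
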