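import Groth.Agent.L11.HilbConn.Fam
import Mathlib.RingTheory.Valuation.LocalSubring
import Mathlib.RingTheory.FiniteType
import Mathlib.RingTheory.FiniteStability
import Mathlib.RingTheory.Jacobson.Ring
import Mathlib.FieldTheory.IsAlgClosed.Basic
import Mathlib.RingTheory.Ideal.AssociatedPrime.Basic
import Mathlib.RingTheory.Artinian.Ring
import Mathlib.RingTheory.HopkinsLevitzki

/-!
# Extending by a moving point

For a family of ideals over `A` and a moving point, the extensions over the points of an irreducible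
closed subset of `Spec A` lie in one class: on each chart of the blow up of the values they form a
family over a domain, and valuations show that these charts reach every point.
-/

set_option autoImplicit false
set_option linter.style.haveILetI false
set_option backward.isDefEq.respectTransparency false
set_option backward.isDefEq.respectTransparency.types false

universe u v

open scoped TensorProduct

noncomputable section

namespace Groth.L11.HilbConn

variable {k : Type u} [Field k]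

theorem exists_algHom_ker [IsAlgClosed k] {A : Type u} [CommRing A] [Algebra k A] [Algebra.FiniteType k A]
    (M : Ideal A) [M.IsMaximal] : ∃ φ : A →ₐ[k] k, RingHom.ker φ = M := by
  letI := Ideal.Quotient.field M
  haveI : Module.Finite k (A ⧸ M) := finite_of_finite_type_of_isJacobsonRing k (A ⧸ M)
  let e := AlgEquiv.ofBijective (Algebra.ofId k (A ⧸ M))
    (IsAlgClosed.algebraMap_bijective_of_isIntegral (k := k) (K := A ⧸ M))
  refine ⟨e.symm.toAlgHom.comp (Ideal.Quotient.mkₐ k M), ?_⟩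
  ext a
  rw [RingHom.mem_ker, AlgHom.comp_apply]
  refine ⟨fun h => ?_, fun h => ?_⟩
  · exact Ideal.Quotient.eq_zero_iff_mem.1 ((map_eq_zero_iff _ e.symm.injective).1 h)
  · show e.symm (Ideal.Quotient.mk M a) = 0
    rw [Ideal.Quotient.eq_zero_iff_mem.2 h, map_zero]

theorem eq_of_ker_le {A : Type u} [CommRing A] [Algebra k A] {φ φ' : A →ₐ[k] k}
    (h : RingHom.ker φ ≤ RingHom.ker φ') : φ' = φ := by
  ext a
  have h1 : a - algebraMap k A (φ a) ∈ RingHom.ker φ := by
    rw [RingHom.mem_ker, map_sub, AlgHom.commutes]; exact sub_self _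
  have h2 := h h1
  rw [RingHom.mem_ker, map_sub, AlgHom.commutes, sub_eq_zero] at h2
  exact h2

variable {B : Type u} [CommRing B] [Algebra k B] {n : ℕ} {Cl : Type v} (cls : Ideal (k ⊗[k] B) → Cl)

/-- `cls` is constant along families over domains of finite type. -/
def IsClass (n : ℕ) : Prop :=
  ∀ (A : Type u) [CommRing A] [IsDomain A] [Algebra k A] [Algebra.FiniteType k A] (K : Ideal (A ⊗[k] B)),
    IsFam (n + 1) K → ∀ φ ψ : A →ₐ[k] k, cls (K.map (tmap B φ)) = cls (K.map (tmap B ψ))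

variable {cls}

theorem cls_eq_of_isExt (hc : IsClass cls n) {a J₁ J₂ : Ideal (k ⊗[k] B)} {χ : B →ₐ[k] k}
    (h₁ : IsExt n a χ J₁) (h₂ : IsExt n a χ J₂) : cls J₁ = cls J₂ := by
  by_cases h : J₁ = J₂
  · rw [h]
  obtain ⟨K, hK, φ₁, φ₂, rfl, rfl⟩ := exists_line h₁ h₂ h
  exact hc (Polynomial k) K hK φ₁ φ₂

/-- The class of extensions is constant along an irreducible closed set of parameters. -/
theorem exists_class [IsAlgClosed k] (hc : IsClass cls n) {A : Type u} [CommRing A] [Algebra k A]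
    [Algebra.FiniteType k A] [Algebra.FiniteType k B] {K : Ideal (A ⊗[k] B)} (hK : IsFam n K) (X : B →ₐ[k] A)
    {L : Type u} [Field L] [Algebra k L] (ι : A →ₐ[k] L) (Ψ : L ⊗[k] B → L)
    (hadd : ∀ s t, Ψ (s + t) = Ψ s + Ψ t)
    (hmul : ∀ t ∈ K.map (tmap B ι), ∀ r, Ψ (r * t) = ev (ι.comp X) r * Ψ t)
    (hne : ∃ t ∈ K, Ψ (tmap B ι t) ≠ 0) :
    ∃ v, ∀ φ : A →ₐ[k] k, RingHom.ker ι ≤ RingHom.ker φ →
      ∃ J, IsExt n (K.map (tmap B φ)) (φ.comp X) J ∧ cls J = v := by
  classical
  haveI : IsNoetherianRing A := Algebra.FiniteType.isNoetherianRing k A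
  haveI : IsNoetherianRing (A ⊗[k] B) := Algebra.FiniteType.isNoetherianRing A _
  obtain ⟨G, hG⟩ := (isNoetherianRing_iff_ideal_fg _).1 ‹IsNoetherianRing (A ⊗[k] B)› K
  obtain ⟨s, hs⟩ := Algebra.FiniteType.out (R := k) (A := A)
  have hgK : ∀ g ∈ G, g ∈ K := fun g hg => hG ▸ Ideal.subset_span hg
  have h0 : Ψ 0 = 0 := by
    have := hadd 0 0
    rw [add_zero] at this
    simpa using this
  let val : (A ⊗[k] B) → L := fun g => Ψ (tmap B ι g)
  let gens : (A ⊗[k] B) → Finset L := fun g => s.image ι ∪ G.image (fun h => val h / val g)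
  -- a chart
  have chart : ∀ g ∈ G, val g ≠ 0 →
      ∃ K' : Ideal (↥(Algebra.adjoin k (gens g : Set L)) ⊗[k] B), IsFam (n + 1) K' ∧
        ∀ φ : A →ₐ[k] k, ∀ φ' : ↥(Algebra.adjoin k (gens g : Set L)) →ₐ[k] k,
          (∀ a (ha : ι a ∈ Algebra.adjoin k (gens g : Set L)), φ' ⟨ι a, ha⟩ = φ a) →
            IsExt n (K.map (tmap B φ)) (φ.comp X) (K'.map (tmap B φ')) := by
    intro g hg hgne
    set R := Algebra.adjoin k (gens g : Set L) with hR
    have hA : ∀ a, ι a ∈ R := fun a => by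
      have h1 : ι a ∈ (Algebra.adjoin k (s : Set A)).map ι := ⟨a, hs ▸ trivial, rfl⟩
      rw [AlgHom.map_adjoin] at h1
      refine Algebra.adjoin_mono (fun x hx => ?_) h1
      obtain ⟨y, hy, rfl⟩ := hx
      exact Finset.mem_union_left _ (Finset.mem_image_of_mem _ hy)
    have hrat : ∀ t ∈ K, val t / val g ∈ R := by
      intro t ht
      have key : ∀ r : A ⊗[k] B, ∀ y ∈ K, val (r * y) = ι (ev X r) * val y := fun r y hy => by
        show Ψ (tmap B ι (r * y)) = _
        rw [map_mul, hmul _ (Ideal.mem_map_of_mem _ hy), ev_tmap]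
      rw [← hG] at ht
      induction ht using Submodule.span_induction with
      | mem y hy => exact Algebra.subset_adjoin (Finset.mem_union_right _ (Finset.mem_image_of_mem _ hy))
      | zero => simp [val, h0]
      | add x y _ _ hx hy =>
        show Ψ (tmap B ι (x + y)) / val g ∈ R
        rw [map_add, hadd, add_div]; exact add_mem hx hy
      | smul r y hy' hy =>
        rw [smul_eq_mul, key r y (hG ▸ hy'), mul_div_assoc]; exact mul_mem (hA _) hy
    let ιR : A →ₐ[k] R := ι.codRestrict R hA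
    let XR := ιR.comp X
    have hιR : R.val.comp ιR = ι := AlgHom.ext fun a => rfl
    have hev : ∀ r : ↥R ⊗[k] B, ev (ι.comp X) (tmap B R.val r) = (ev XR r : ↥R).1 := fun r => by
      rw [show ι.comp X = R.val.comp XR from AlgHom.ext fun a => rfl, ev_tmap]; rfl
    have hKR : ∀ t ∈ K.map (tmap B ιR), tmap B R.val t ∈ K.map (tmap B ι) := fun t ht => by
      rw [← hιR, ← map_tmap_tmap]; exact Ideal.mem_map_of_mem _ ht
    have hint : ∀ t ∈ K.map (tmap B ιR), ∀ r, Ψ (tmap B R.val (r * t)) / val g ∈ R := by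
      intro t ht r
      rw [map_mul, hmul _ (hKR t ht), mul_div_assoc, hev]
      refine mul_mem (Subtype.coe_prop _) ?_
      induction ht using Submodule.span_induction with
      | mem y hy =>
        obtain ⟨y₀, hy₀, rfl⟩ := hy
        rw [tmap_tmap, hιR]
        exact hrat y₀ hy₀
      | zero => simp [h0]
      | add x y _ _ hx hy => rw [map_add, hadd, add_div]; exact add_mem hx hy
      | smul c y hy' hy =>
        rw [smul_eq_mul, map_mul, hmul _ (hKR y hy'), mul_div_assoc, hev]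
        exact mul_mem (Subtype.coe_prop _) hy
    have hint1 : ∀ t ∈ K.map (tmap B ιR), Ψ (tmap B R.val t) / val g ∈ R := fun t ht => by
      simpa using hint t ht 1
    let ψ : ↥(K.map (tmap B ιR)) → ↥R := fun t => ⟨_, hint1 t.1 t.2⟩
    obtain ⟨K', hK', hle, hm, -⟩ := exists_ext (hK.map ιR) XR ψ
      (fun x y => Subtype.ext (by
        show Ψ (tmap B R.val (x.1 + y.1)) / val g = _
        rw [map_add, hadd, add_div]; rfl))
      (fun r t => Subtype.ext (by
        show Ψ (tmap B R.val (r * t.1)) / val g = _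
        rw [map_mul, hmul _ (hKR t.1 t.2), mul_div_assoc, hev]; rfl))
      ⟨⟨_, Ideal.mem_map_of_mem _ (hgK g hg)⟩, Subtype.ext (by
        show Ψ (tmap B R.val (tmap B ιR g)) / val g = 1
        rw [tmap_tmap, hιR]; exact div_self hgne)⟩
    refine ⟨K', hK', fun φ φ' hφ => ?_⟩
    have hcomp : φ'.comp ιR = φ := AlgHom.ext fun a => hφ a (hA a)
    have h := isExt_map (hK.map ιR) hK' hle XR hm φ'
    rw [map_tmap_tmap, hcomp] at h
    rw [show φ.comp X = φ'.comp XR by rw [← hcomp]; rfl]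
    exact h
  choose K' hK' hext using chart
  have hft : ∀ S : Finset L, Algebra.FiniteType k ↥(Algebra.adjoin k (S : Set L)) := fun S =>
    ((Algebra.adjoin k (S : Set L)).fg_iff_finiteType).1 ⟨S, rfl⟩
  haveI := hft
  have hmemA : ∀ g a, ι a ∈ Algebra.adjoin k (gens g : Set L) := fun g a => by
    have h1 : ι a ∈ (Algebra.adjoin k (s : Set A)).map ι := ⟨a, hs ▸ trivial, rfl⟩
    rw [AlgHom.map_adjoin] at h1
    refine Algebra.adjoin_mono (fun x hx => ?_) h1
    obtain ⟨y, hy, rfl⟩ := hx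
    exact Finset.mem_union_left _ (Finset.mem_image_of_mem _ hy)
  have hex : ∀ g, ∃ φ' : ↥(Algebra.adjoin k (gens g : Set L)) →ₐ[k] k, True := fun g => by
    obtain ⟨M, hM⟩ := Ideal.exists_maximal ↥(Algebra.adjoin k (gens g : Set L))
    obtain ⟨φ', -⟩ := exists_algHom_ker (k := k) M
    exact ⟨φ', trivial⟩
  choose pt hpt using hex
  obtain ⟨g₀, hg₀, hg₀ne⟩ : ∃ g ∈ G, val g ≠ 0 := by
    by_contra hall
    push Not at hall
    obtain ⟨t, ht, htne⟩ := hne
    refine htne ?_
    clear htne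
    rw [← hG] at ht
    induction ht using Submodule.span_induction with
    | mem y hy => exact hall y hy
    | zero => simp [h0]
    | add x y _ _ hx hy => rw [map_add, hadd, hx, hy, add_zero]
    | smul r y hy' hy => rw [smul_eq_mul, map_mul, hmul _ (Ideal.mem_map_of_mem _ (hG ▸ hy')), hy, mul_zero]
  have hbridge : ∀ g (hg : g ∈ G) (hgne : val g ≠ 0),
      cls ((K' g hg hgne).map (tmap B (pt g))) = cls ((K' g₀ hg₀ hg₀ne).map (tmap B (pt g₀))) := by
    intro g hg hgne
    let R := Algebra.adjoin k ((gens g ∪ gens g₀ : Finset L) : Set L)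
    obtain ⟨M, hM⟩ := Ideal.exists_maximal ↥R
    obtain ⟨ψ, -⟩ := exists_algHom_ker (k := k) M
    have hR₁ : Algebra.adjoin k (gens g : Set L) ≤ R := Algebra.adjoin_mono (by simp)
    have hR₂ : Algebra.adjoin k (gens g₀ : Set L) ≤ R := Algebra.adjoin_mono (by simp)
    let φ : A →ₐ[k] k := ψ.comp (ι.codRestrict R fun a => hR₁ (hmemA g a))
    have h₁ := hext g hg hgne φ (ψ.comp (Subalgebra.inclusion hR₁)) (fun a ha => rfl)
    have h₂ := hext g₀ hg₀ hg₀ne φ (ψ.comp (Subalgebra.inclusion hR₂)) (fun a ha => rfl)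
    exact (hc _ _ (hK' g hg hgne) _ _).trans ((cls_eq_of_isExt hc h₁ h₂).trans (hc _ _ (hK' g₀ hg₀ hg₀ne) _ _))
  refine ⟨cls ((K' g₀ hg₀ hg₀ne).map (tmap B (pt g₀))), fun φ hφ => ?_⟩
  obtain ⟨g, hg, hgne, φ', hφ'⟩ : ∃ g ∈ G, val g ≠ 0 ∧ ∃ φ' : ↥(Algebra.adjoin k (gens g : Set L)) →ₐ[k] k,
      ∀ a (ha : ι a ∈ Algebra.adjoin k (gens g : Set L)), φ' ⟨ι a, ha⟩ = φ a := by
    let I : Ideal ι.toRingHom.range := (RingHom.ker φ).map ι.toRingHom.rangeRestrict
    have hI : I ≠ ⊤ := fun h => by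
      obtain ⟨a, ha, h1⟩ := (Ideal.mem_map_iff_of_surjective _ ι.toRingHom.rangeRestrict_surjective).1
        (h ▸ trivial : (1 : ι.toRingHom.range) ∈ I)
      have h2 : a - 1 ∈ RingHom.ker φ := hφ (by
        rw [RingHom.mem_ker, map_sub, map_one, sub_eq_zero]
        exact congrArg Subtype.val h1)
      rw [RingHom.mem_ker] at ha h2
      rw [map_sub, ha, map_one, zero_sub, neg_eq_zero] at h2
      exact one_ne_zero h2
    obtain ⟨O, hO, hOI⟩ := Ideal.image_subset_nonunits_valuationSubring I hI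
    obtain ⟨g, hgG, hmax⟩ := Finset.exists_max_image G (fun g => O.valuation (val g)) ⟨g₀, hg₀⟩
    have hgne : val g ≠ 0 := fun h => by
      have h1 := hmax g₀ hg₀
      rw [h, map_zero, le_zero_iff, map_eq_zero] at h1
      exact hg₀ne h1
    have hAO : ∀ a, ι a ∈ O := fun a => hO ⟨a, rfl⟩
    have hRO : ∀ x ∈ Algebra.adjoin k (gens g : Set L), x ∈ O := by
      intro x hx
      induction hx using Algebra.adjoin_induction with
      | mem x hx =>
        rcases Finset.mem_union.1 hx with h | h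
        · obtain ⟨a, -, rfl⟩ := Finset.mem_image.1 h; exact hAO a
        · obtain ⟨h', hh', rfl⟩ := Finset.mem_image.1 h
          rw [← O.valuation_le_one_iff, map_div₀]
          exact div_le_one_of_le₀ (hmax h' hh') zero_le
      | algebraMap c => rw [← ι.commutes]; exact hAO _
      | add x y _ _ hx hy => exact O.add_mem _ _ hx hy
      | mul x y _ _ hx hy => exact O.mul_mem _ _ hx hy
    let incl : ↥(Algebra.adjoin k (gens g : Set L)) →+* O :=
      { toFun := fun x => ⟨x.1, hRO x.1 x.2⟩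
        map_one' := rfl, map_mul' := fun _ _ => rfl, map_zero' := rfl, map_add' := fun _ _ => rfl }
    let q := (IsLocalRing.maximalIdeal O).comap incl
    obtain ⟨M, hM, hqM⟩ := Ideal.exists_le_maximal q (Ideal.IsPrime.ne_top inferInstance)
    obtain ⟨φ', hφ'⟩ := exists_algHom_ker (k := k) M
    refine ⟨g, hgG, hgne, φ', fun a ha => ?_⟩
    have e : φ'.comp (ι.codRestrict _ (hmemA g)) = φ := eq_of_ker_le fun b hb => by
      rw [RingHom.mem_ker, AlgHom.comp_apply, ← RingHom.mem_ker, hφ']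
      refine hqM ?_
      have h1 : ι b ∈ O.nonunits := hOI ⟨⟨ι b, b, rfl⟩, Ideal.mem_map_of_mem ι.toRingHom.rangeRestrict hb, rfl⟩
      show (⟨ι b, hAO b⟩ : O) ∈ IsLocalRing.maximalIdeal O
      exact ValuationSubring.coe_mem_nonunits_iff.1 h1
    exact AlgHom.congr_fun e a
  exact ⟨_, hext g hg hgne φ φ' hφ', (hc _ _ (hK' g hg hgne) _ _).trans (hbridge g hg hgne)⟩

/-- The same, when the moving point itself provides the values. -/
theorem exists_class_ev [IsAlgClosed k] (hc : IsClass cls n) {A : Type u} [CommRing A] [Algebra k A]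
    [Algebra.FiniteType k A] [Algebra.FiniteType k B] {K : Ideal (A ⊗[k] B)} (hK : IsFam n K) (X : B →ₐ[k] A)
    (P : Ideal A) [P.IsPrime] (hP : ∃ t ∈ K, ev X t ∉ P) :
    ∃ v, ∀ φ : A →ₐ[k] k, P ≤ RingHom.ker φ →
      ∃ J, IsExt n (K.map (tmap B φ)) (φ.comp X) J ∧ cls J = v := by
  let L := FractionRing (A ⧸ P)
  let ι : A →ₐ[k] L := (IsScalarTower.toAlgHom k (A ⧸ P) L).comp (Ideal.Quotient.mkₐ k P)
  have hι : ∀ a, ι a = 0 ↔ a ∈ P := fun a => by
    show algebraMap (A ⧸ P) L (Ideal.Quotient.mk P a) = 0 ↔ _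
    rw [map_eq_zero_iff _ (IsFractionRing.injective (A ⧸ P) L), Ideal.Quotient.eq_zero_iff_mem]
  obtain ⟨t, ht, htP⟩ := hP
  obtain ⟨v, hv⟩ := exists_class hc hK X ι (fun s => ev (ι.comp X) s) (fun s t => map_add _ _ _)
    (fun t _ r => map_mul _ _ _) ⟨t, ht, by rw [ev_tmap]; exact fun h => htP ((hι _).1 h)⟩
  exact ⟨v, fun φ hφ => hv φ fun a ha => hφ ((hι a).1 ha)⟩

theorem exists_socle [IsAlgClosed k] (T : Type u) [CommRing T] [Algebra k T] [Module.Finite k T] [Nontrivial T] :
    ∃ χ : T →ₐ[k] k, ∃ e : T, e ≠ 0 ∧ ∀ r, χ r = 0 → r * e = 0 := by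
  haveI : IsArtinianRing T := IsArtinianRing.of_finite k T
  obtain ⟨p, hp, -⟩ := exists_le_isAssociatedPrime_of_isNoetherianRing T (1 : T) one_ne_zero
  obtain ⟨hpp, e, he⟩ := (isAssociatedPrime_iff).1 hp
  haveI := hpp
  haveI : p.IsMaximal := IsArtinianRing.isMaximal_of_isPrime p
  haveI : Algebra.FiniteType k T := inferInstance
  obtain ⟨χ, hχ⟩ := exists_algHom_ker (k := k) p
  refine ⟨χ, e, fun h => hpp.ne_top ?_, fun r hr => ?_⟩
  · rw [he, h, Ideal.eq_top_iff_one, Submodule.mem_colon_singleton, Submodule.mem_bot, smul_zero]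
  · have h1 : r ∈ p := hχ ▸ hr
    rwa [he, Submodule.mem_colon_singleton, Submodule.mem_bot] at h1

/-- Every ideal of colength `n + 1` extends one of colength `n`. -/
theorem exists_isExt [IsAlgClosed k] {J : Ideal (k ⊗[k] B)} (hJ : IsFam (n + 1) J) :
    ∃ a χ, IsExt n a χ J := by
  haveI := hJ.fin
  haveI : Nontrivial ((k ⊗[k] B) ⧸ J) := Module.nontrivial_of_finrank_pos (R := k) (by rw [hJ.finrank_eq]; omega)
  obtain ⟨χ₀, e, hne, he⟩ := exists_socle (k := k) ((k ⊗[k] B) ⧸ J)
  let χ : B →ₐ[k] k := χ₀.comp ((Ideal.Quotient.mkₐ k J).comp Algebra.TensorProduct.includeRight)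
  have hχ : ∀ r : k ⊗[k] B, χ₀ (Ideal.Quotient.mk J r) = ev χ r := by
    intro r
    induction r using TensorProduct.induction_on with
    | zero => simp
    | tmul c b =>
      have e' : c ⊗ₜ[k] b = c • ((1 : k) ⊗ₜ[k] b) := by rw [TensorProduct.smul_tmul', smul_eq_mul, mul_one]
      rw [ev_tmul, e', ← Ideal.Quotient.mkₐ_eq_mk k, map_smul, map_smul]
      rfl
    | add x y hx hy => simp only [map_add, hx, hy]
  obtain ⟨e₀, rfl⟩ := Ideal.Quotient.mk_surjective e
  have hann : ∀ r, ev χ r = 0 → r * e₀ ∈ J := fun r hr => by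
    have h1 := he _ ((hχ r).trans hr)
    rw [← map_mul] at h1
    exact Ideal.Quotient.eq_zero_iff_mem.1 h1
  have he₀ : e₀ ∉ J := fun h => hne (Ideal.Quotient.eq_zero_iff_mem.2 h)
  let a := J ⊔ Ideal.span {e₀}
  have hmul : ∀ r, ev χ r = 0 → ∀ t ∈ a, r * t ∈ J := fun r hr t ht => by
    obtain ⟨y, hy, z, hz, rfl⟩ := Submodule.mem_sup.1 ht
    obtain ⟨c, rfl⟩ := Ideal.mem_span_singleton'.1 hz
    rw [mul_add, mul_left_comm]
    exact add_mem (J.mul_mem_left _ hy) (J.mul_mem_left _ (hann r hr))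
  have hle : J ≤ a := le_sup_left
  refine ⟨a, χ, ?_, hJ, hle, hmul⟩
  haveI : Module.Finite k ((k ⊗[k] B) ⧸ a) := Module.Finite.of_surjective
    (Ideal.Quotient.factorₐ k hle).toLinearMap (Ideal.Quotient.factor_surjective hle)
  refine isFam_of_finrank ?_
  let π := (Ideal.Quotient.factorₐ k hle).toLinearMap
  have h1 := π.finrank_range_add_finrank_ker
  rw [LinearMap.range_eq_top.2 (Ideal.Quotient.factor_surjective hle), finrank_top,
    hJ.finrank_eq] at h1
  have h2 : Module.finrank k (LinearMap.ker π) = 1 := by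
    refine finrank_eq_one ⟨Ideal.Quotient.mk J e₀, ?_⟩ (fun h => he₀ (Ideal.Quotient.eq_zero_iff_mem.1
      (congrArg Subtype.val h))) ?_
    · exact Ideal.Quotient.eq_zero_iff_mem.2 (Submodule.mem_sup_right (Ideal.mem_span_singleton_self e₀))
    · rintro ⟨z, hz⟩
      obtain ⟨t, rfl⟩ := Ideal.Quotient.mk_surjective z
      obtain ⟨y, hy, w, hw, rfl⟩ := Submodule.mem_sup.1 (Ideal.Quotient.eq_zero_iff_mem.1 hz)
      obtain ⟨c, rfl⟩ := Ideal.mem_span_singleton'.1 hw
      refine ⟨ev χ c, Subtype.ext ?_⟩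
      show ev χ c • Ideal.Quotient.mk J e₀ = Ideal.Quotient.mk J (y + c * e₀)
      rw [← Ideal.Quotient.mkₐ_eq_mk k, ← map_smul, Ideal.Quotient.mkₐ_eq_mk, Ideal.Quotient.eq,
        ← algebraMap_smul (k ⊗[k] B) (ev χ c) e₀, smul_eq_mul]
      have h3 : (algebraMap k _ (ev χ c) - c) * e₀ ∈ J := hann _ (by
        rw [map_sub, AlgHom.commutes]; exact sub_self _)
      have h4 := sub_mem h3 hy
      rwa [show (algebraMap k (k ⊗[k] B) (ev χ c) - c) * e₀ - y = algebraMap k (k ⊗[k] B) (ev χ c) * e₀ - (y + c * e₀)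
        by ring] at h4
  omega

end Groth.L11.HilbConn
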