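import Groth.Agent.L02.Hilb.Repr
import Groth.Agent.L11.HilbConn.Master
import Mathlib.AlgebraicGeometry.AlgClosed.Basic
import Mathlib.Topology.Connected.Basic

/-!
# Points of the Hilbert scheme of points in affine pieces

Families of ideals on an affine open of a `k`-scheme give morphisms to the Hilbert scheme; change of
the affine open; local finite type of the Hilbert scheme; the classes of one step extensions.
-/

set_option autoImplicit false
set_option linter.style.haveILetI false
set_option linter.unusedSectionVars false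
set_option backward.isDefEq.respectTransparency false
set_option backward.isDefEq.respectTransparency.types false

universe u

open CategoryTheory CategoryTheory.Limits AlgebraicGeometry TopologicalSpace
open scoped TensorProduct
open Groth.L02.Hilb Groth.L13.BU

noncomputable section

namespace Groth.L11.HilbConn

variable {k : Type u} [Field k] {Y : Scheme.{u}}

/-- An affine open of a `k`-scheme with its coordinate algebra. -/
structure Piece (f : Y ⟶ Spec (CommRingCat.of k)) where
  B : Type u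
  [instB : CommRing B]
  [instAlg : Algebra k B]
  [ft : Algebra.FiniteType k B]
  j : Spec (CommRingCat.of B) ⟶ Y
  [openJ : IsOpenImmersion j]
  w : j ≫ f = Spec.map (CommRingCat.ofHom (algebraMap k B))

attribute [instance] Piece.instB Piece.instAlg Piece.ft Piece.openJ

variable {f : Y ⟶ Spec (CommRingCat.of k)}

namespace Piece

variable (P : Piece f)

/-- The piece as a chart of the Hilbert functor. -/
abbrev chart (n : ℕ) : Chart f n :=
  { R := k, B := P.B, i := 𝟙 _, j := P.j, w := by rw [P.w, Category.comp_id], s := fun _ => 0 }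

end Piece

/-- `Spec A` over `k`. -/
abbrev TA (A : Type u) [CommRing A] [Algebra k A] : Over (Spec (CommRingCat.of k)) :=
  Over.mk (Spec.map (CommRingCat.ofHom (algebraMap k A)) ≫ 𝟙 _)

/-- A map of algebras as a map over `k`. -/
def Tmap {A A' : Type u} [CommRing A] [Algebra k A] [CommRing A'] [Algebra k A'] (φ : A →ₐ[k] A') :
    TA (k := k) A' ⟶ TA A :=
  Over.homMk (Spec.map (CommRingCat.ofHom φ.toRingHom)) (by
    simp only [Over.mk_hom, ← Category.assoc, ← Spec.map_comp]
    congr 2
    ext a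
    exact φ.commutes a)

/-- The point of the spectrum of the field. -/
def p₀ : (TA (k := k) k).left := IsLocalRing.closedPoint k

theorem TA_eq_p₀ (z : (TA (k := k) k).left) : z = p₀ :=
  Subsingleton.elim (α := PrimeSpectrum k) _ _

theorem eq_map_comap {U X : Scheme.{u}} (μ : U ⟶ X) [IsOpenImmersion μ] (I : X.IdealSheafData)
    (hr : Set.range I.subschemeι ⊆ Set.range μ) : I = (I.comap μ).map μ := by
  let l := IsOpenImmersion.lift μ I.subschemeι hr
  have hl : l ≫ μ = I.subschemeι := IsOpenImmersion.lift_fac _ _ _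
  haveI : IsClosedImmersion (l ≫ μ) := by rw [hl]; infer_instance
  haveI : IsClosedImmersion l := IsClosedImmersion.of_comp l μ
  haveI hcl : IsClosedImmersion (l.ker.subschemeι ≫ μ) := by
    rw [← MorphismProperty.cancel_left_of_respectsIso (P := @IsClosedImmersion) l.toImage, ← Category.assoc]
    erw [l.toImage_imageι]
    rw [hl]; infer_instance
  have hImap : I = l.ker.map μ := by
    rw [Scheme.IdealSheafData.map_ker, hl, Scheme.IdealSheafData.ker_subschemeι]
  have hcomap : I.comap μ = l.ker := (congrArg (fun J => Scheme.IdealSheafData.comap J μ) hImap).trans (comap_map_eq_mono _ _)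
  rw [hcomap, ← hImap]

namespace Piece

variable (P : Piece f) {A A' : Type u} [CommRing A] [Algebra k A] [CommRing A'] [Algebra k A'] {n : ℕ}

/-- `Spec (A ⊗ B) ⟶ Y ×_k Spec A`. -/
abbrev μ (A : Type u) [CommRing A] [Algebra k A] :
    Spec (CommRingCat.of (A ⊗[k] P.B)) ⟶ PicF.XT f (TA A) :=
  (P.chart 0).μ A

instance (A : Type u) [CommRing A] [Algebra k A] : IsOpenImmersion (P.μ A) :=
  inferInstanceAs (IsOpenImmersion ((P.chart 0).μ A))

theorem mem_range_μ' (z : (PicF.XT f (TA (k := k) A) : Scheme.{u})) :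
    z ∈ Set.range (P.μ A) ↔ pullback.fst f (TA (k := k) A).hom z ∈ Set.range P.j :=
  (P.chart 0).mem_range_μ A z

/-- The family of closed subschemes of an ideal. -/
def fam (K : Ideal (A ⊗[k] P.B)) : (PicF.XT f (TA A)).IdealSheafData := (idealOf K).map (P.μ A)

variable [IsSeparated f]

theorem isClosedImmersion_fam {K : Ideal (A ⊗[k] P.B)} (hK : IsFam n K) :
    IsClosedImmersion ((idealOf K).subschemeι ≫ P.μ A) := by
  obtain ⟨e, he⟩ := exists_iso_spec_mk K
  haveI := hK.fin
  haveI hfin : IsFinite (((idealOf K).subschemeι ≫ P.μ A) ≫ PicF.XTproj f (TA A)) := by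
    rw [← MorphismProperty.cancel_left_of_respectsIso (P := @IsFinite) e.hom, Category.assoc,
      show P.μ A ≫ PicF.XTproj f (TA A) = (P.chart 0).inclA A from (P.chart 0).μ_proj A,
      reassoc_of% he]
    show IsFinite (Spec.map _ ≫ Spec.map _)
    rw [← Spec.map_comp, IsFinite.SpecMap_iff]
    exact RingHom.finite_algebraMap.2 hK.fin
  haveI : IsProper (((idealOf K).subschemeι ≫ P.μ A) ≫ PicF.XTproj f (TA A)) := inferInstance
  haveI : IsProper ((idealOf K).subschemeι ≫ P.μ A) := IsProper.of_comp _ (PicF.XTproj f (TA A))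
  exact IsClosedImmersion.of_isPreimmersion _ (((idealOf K).subschemeι ≫ P.μ A).isClosedMap.isClosed_range)

theorem fam_comap {K : Ideal (A ⊗[k] P.B)} (hK : IsFam n K) : (P.fam K).comap (P.μ A) = idealOf K := by
  haveI := P.isClosedImmersion_fam hK
  exact comap_map_eq_mono _ _

theorem fam_injective {K K' : Ideal (A ⊗[k] P.B)} (hK : IsFam n K) (hK' : IsFam n K') (h : P.fam K = P.fam K') :
    K = K' :=
  idealOf_injective (by rw [← P.fam_comap hK, h, P.fam_comap hK'])

theorem pull_fam {K : Ideal (A ⊗[k] P.B)} (hK : IsFam n K) (φ : A →ₐ[k] A') :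
    HilbD.pull f (Tmap φ) (P.fam K) = P.fam (K.map (tmap P.B φ)) := by
  haveI := P.isClosedImmersion_fam hK
  rw [pull_eq, fam, fam]
  refine (map_comap_of_isPullback_mono ((P.chart 0).isPullback_map φ) (idealOf K)).trans ?_
  rw [idealOf_comap]
  rfl

theorem deg_fam {K : Ideal (A ⊗[k] P.B)} (hK : IsFam n K) :
    Mor2.IsFinLocFreeOfDeg n ((P.fam K).subschemeι ≫ PicF.XTproj f (TA A)) := by
  obtain ⟨e, he⟩ := exists_iso_spec_mk K
  haveI := P.isClosedImmersion_fam hK
  let κ := (idealOf K).subschemeι ≫ P.μ A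
  have h1 : (P.fam K).subschemeι ≫ PicF.XTproj f (TA A) =
      inv κ.toImage ≫ e.inv ≫ Spec.map (CommRingCat.ofHom (algebraMap A ((A ⊗[k] P.B) ⧸ K))) := by
    rw [← cancel_epi κ.toImage, IsIso.hom_inv_id_assoc, ← cancel_epi e.hom, Iso.hom_inv_id_assoc,
      ← Category.assoc κ.toImage]
    erw [κ.toImage_imageι]
    rw [Category.assoc, show P.μ A ≫ PicF.XTproj f (TA A) = (P.chart 0).inclA A from (P.chart 0).μ_proj A,
      reassoc_of% he]
    show Spec.map _ ≫ Spec.map _ = _
    rw [← Spec.map_comp]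
    rfl
  rw [h1]
  haveI := hK.fin
  haveI := hK.proj
  haveI : Module.FinitePresentation A ((A ⊗[k] P.B) ⧸ K) := Module.finitePresentation_of_projective _ _
  refine isFinLocFreeOfDeg_iso_comp _ _ (isFinLocFreeOfDeg_iso_comp _ _ ⟨⟨?_, ?_, ?_⟩, fun y => ?_⟩)
  · rw [IsFinite.SpecMap_iff]; exact RingHom.finite_algebraMap.2 inferInstance
  · rw [HasRingHomProperty.Spec_iff (P := @Flat)]; exact RingHom.flat_algebraMap_iff.2 inferInstance
  · rw [HasRingHomProperty.Spec_iff (P := @LocallyOfFinitePresentation)]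
    exact RingHom.finitePresentation_algebraMap.2 (Algebra.FinitePresentation.of_finitePresentation A _)
  · rw [Scheme.Hom.finrank_SpecMap_algebraMap]
    exact hK.rank y

/-- A family inside the piece comes from an ideal. -/
theorem exists_fam (I : (PicF.XT f (TA A)).IdealSheafData)
    (hI : Mor2.IsFinLocFreeOfDeg n (I.subschemeι ≫ PicF.XTproj f (TA A)))
    (hr : Set.range I.subschemeι ⊆ Set.range (P.μ A)) :
    ∃ K : Ideal (A ⊗[k] P.B), IsFam n K ∧ P.fam K = I := by
  obtain ⟨K, hfin, hproj, hrank, -, hK⟩ := (P.chart n).exists_coord (A := A) I hI hr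
  refine ⟨K, ⟨hfin, hproj, hrank⟩, ?_⟩
  rw [eq_map_comap (P.μ A) I hr, fam]
  exact congrArg (fun J => Scheme.IdealSheafData.map J (P.μ A)) hK.symm

/-- The points of an ideal. -/
def supp (K : Ideal (A ⊗[k] P.B)) : Set Y :=
  {y | ∃ p : PrimeSpectrum (A ⊗[k] P.B), K ≤ p.asIdeal ∧ pullback.fst f (TA A).hom (P.μ A p) = y}

theorem range_fam {K : Ideal (A ⊗[k] P.B)} (hK : IsFam n K) :
    Set.range (P.fam K).subschemeι = P.μ A '' {p : PrimeSpectrum (A ⊗[k] P.B) | K ≤ p.asIdeal} := by
  obtain ⟨e, he⟩ := exists_iso_spec_mk K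
  haveI := P.isClosedImmersion_fam hK
  let κ := (idealOf K).subschemeι ≫ P.μ A
  show Set.range κ.ker.subschemeι = _
  rw [Scheme.IdealSheafData.range_subschemeι, Scheme.Hom.support_ker]
  show closure (Set.range κ) = _
  rw [κ.isClosedEmbedding.isClosed_range.closure_eq]
  ext z
  constructor
  · rintro ⟨w, rfl⟩
    obtain ⟨v, rfl⟩ : ∃ v, e.hom v = w := ⟨e.inv w, by rw [← Scheme.Hom.comp_apply, e.inv_hom_id]; rfl⟩
    refine ⟨PrimeSpectrum.comap (Ideal.Quotient.mk K) v, ?_, ?_⟩
    · intro t ht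
      show Ideal.Quotient.mk K t ∈ v.asIdeal
      rw [Ideal.Quotient.eq_zero_iff_mem.2 ht]; exact zero_mem _
    · show P.μ A (Spec.map (CommRingCat.ofHom (Ideal.Quotient.mk K)) v) = _
      rw [← he]
      simp only [κ, Scheme.Hom.comp_apply]
  · rintro ⟨p, hp, rfl⟩
    have : p ∈ Set.range (PrimeSpectrum.comap (Ideal.Quotient.mk K)) := by
      rw [_root_.range_comap_of_surjective _ _ Ideal.Quotient.mk_surjective, Ideal.mk_ker]
      exact hp
    obtain ⟨v, rfl⟩ := this
    refine ⟨e.hom v, ?_⟩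
    show _ = P.μ A (Spec.map (CommRingCat.ofHom (Ideal.Quotient.mk K)) v)
    rw [← he]
    simp only [κ, Scheme.Hom.comp_apply]

/-- The closed point of a character. -/
def pt (χ : P.B →ₐ[k] k) : Y := P.j (Spec.map (CommRingCat.ofHom χ.toRingHom) (IsLocalRing.closedPoint k))

end Piece

section Universal

variable [IsSeparated f] {n : ℕ} {H : Over (Spec (CommRingCat.of k))} {Z : HilbD.Obj f n H}
  (hH : HilbD.IsUniversal f n H Z)
variable (P : Piece f) {A A' : Type u} [CommRing A] [Algebra k A] [CommRing A'] [Algebra k A']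

/-- The morphism of a family. -/
def toH {K : Ideal (A ⊗[k] P.B)} (hK : IsFam n K) : TA A ⟶ H :=
  (hH _ ⟨P.fam K, P.deg_fam hK⟩).exists.choose

theorem pull_toH {K : Ideal (A ⊗[k] P.B)} (hK : IsFam n K) : HilbD.pull f (toH hH P hK) Z.1 = P.fam K :=
  (hH _ ⟨P.fam K, P.deg_fam hK⟩).exists.choose_spec

theorem toH_map {K : Ideal (A ⊗[k] P.B)} (hK : IsFam n K) (φ : A →ₐ[k] A') :
    Tmap φ ≫ toH hH P hK = toH hH P (hK.map φ) := by
  refine hom_ext_of_isUniversal f hH _ _ ?_
  rw [pull_comp, pull_toH, pull_toH, P.pull_fam hK]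

theorem eq_of_toH_eq {K K' : Ideal (A ⊗[k] P.B)} (hK : IsFam n K) (hK' : IsFam n K')
    (h : toH hH P hK = toH hH P hK') : K = K' :=
  P.fam_injective hK hK' (by rw [← pull_toH hH P hK, h, pull_toH hH P hK'])

theorem toH_congr {K K' : Ideal (A ⊗[k] P.B)} (h : K = K') (hK : IsFam n K) (hK' : IsFam n K') :
    toH hH P hK = toH hH P hK' := by subst h; rfl

/-- The points of a point of the Hilbert scheme. -/
def suppPt (Z : HilbD.Obj f n H) (x : TA (k := k) k ⟶ H) : Set Y :=
  Set.range ((HilbD.pull f x Z.1).subschemeι ≫ pullback.fst f (TA (k := k) k).hom)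

theorem suppPt_toH {K : Ideal (k ⊗[k] P.B)} (hK : IsFam n K) : suppPt Z (toH hH P hK) = P.supp K := by
  rw [suppPt, pull_toH]
  ext y
  constructor
  · rintro ⟨w, rfl⟩
    have hw : (P.fam K).subschemeι w ∈ Set.range (P.fam K).subschemeι := ⟨w, rfl⟩
    rw [P.range_fam hK] at hw
    obtain ⟨p, hp, hpw⟩ := hw
    exact ⟨p, hp, by rw [hpw, Scheme.Hom.comp_apply]⟩
  · rintro ⟨p, hp, rfl⟩
    have hw : P.μ k p ∈ Set.range (P.fam K).subschemeι := by rw [P.range_fam hK]; exact ⟨p, hp, rfl⟩
    obtain ⟨w, hw⟩ := hw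
    exact ⟨w, by rw [Scheme.Hom.comp_apply, hw]⟩

theorem finite_suppPt (x : TA (k := k) k ⟶ H) : (suppPt Z x).Finite := by
  obtain ⟨⟨hfin, -, -⟩, -⟩ := isFinLocFreeOfDeg_pull f x Z.1 Z.2
  haveI := hfin
  haveI : Finite (HilbD.pull f x Z.1).subscheme := by
    have := ((HilbD.pull f x Z.1).subschemeι ≫ PicF.XTproj f (TA k)).finite_preimage_singleton p₀
    refine Set.finite_univ_iff.1 (this.subset fun w _ => TA_eq_p₀ _)
  exact Set.finite_range _

theorem exists_toH_eq (x : TA (k := k) k ⟶ H) (hx : suppPt Z x ⊆ Set.range P.j) :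
    ∃ (K : Ideal (k ⊗[k] P.B)) (hK : IsFam n K), toH hH P hK = x := by
  obtain ⟨K, hK, he⟩ := P.exists_fam _ (isFinLocFreeOfDeg_pull f x Z.1 Z.2) (by
    rintro _ ⟨w, rfl⟩
    rw [P.mem_range_μ']
    exact hx ⟨w, by rw [Scheme.Hom.comp_apply]⟩)
  exact ⟨K, hK, hom_ext_of_isUniversal f hH _ _ (by rw [pull_toH, he])⟩

open scoped Classical in
/-- The connected component of the point of an ideal. -/
def cls (K : Ideal (k ⊗[k] P.B)) : Option (ConnectedComponents H.left) :=
  if h : IsFam n K then some (ConnectedComponents.mk ((toH hH P h).left p₀)) else none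

theorem cls_eq {K : Ideal (k ⊗[k] P.B)} (h : IsFam n K) :
    cls hH P K = some (ConnectedComponents.mk ((toH hH P h).left p₀)) := dif_pos h

theorem isClass_cls {m : ℕ} {H' : Over (Spec (CommRingCat.of k))} {Z' : HilbD.Obj f (m + 1) H'}
    (hH' : HilbD.IsUniversal f (m + 1) H' Z') : IsClass (cls hH' P) m := by
  intro A _ _ _ _ K hK φ ψ
  rw [cls_eq hH' P (hK.map φ), cls_eq hH' P (hK.map ψ), Option.some_inj, ConnectedComponents.coe_eq_coe]
  refine connectedComponent_eq ?_
  haveI : IrreducibleSpace (PrimeSpectrum A) := inferInstance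
  haveI : PreconnectedSpace (PrimeSpectrum A) := inferInstance
  have hpre : _root_.IsPreconnected (Set.range (toH hH' P hK).left) :=
    isPreconnected_range (α := PrimeSpectrum A) (toH hH' P hK).left.continuous
  refine hpre.subset_connectedComponent ?_ ?_
  · exact ⟨(Tmap φ).left p₀, by rw [← toH_map, Over.comp_left, Scheme.Hom.comp_apply]⟩
  · exact ⟨(Tmap ψ).left p₀, by rw [← toH_map, Over.comp_left, Scheme.Hom.comp_apply]⟩

end Universal

end Groth.L11.HilbConn
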