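import Groth.Agent.L11.HilbConn.Change
import Mathlib.AlgebraicGeometry.Morphisms.FiniteType

/-!
# The Hilbert scheme of points is locally of finite type
-/

set_option autoImplicit false
set_option linter.style.haveILetI false
set_option linter.unusedSectionVars false
set_option backward.isDefEq.respectTransparency false
set_option backward.isDefEq.respectTransparency.types false

universe u

open CategoryTheory CategoryTheory.Limits AlgebraicGeometry TopologicalSpace
open scoped TensorProduct
open Groth.L02.Hilb Groth.L13.BU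

noncomputable section

namespace Groth.L11.HilbConn

variable {k : Type u} [Field k] {Y : Scheme.{u}} {f : Y ⟶ Spec (CommRingCat.of k)}
variable [IsSeparated f] [LocallyOfFiniteType f] {n : ℕ} {H : Over (Spec (CommRingCat.of k))} {Z : HilbD.Obj f n H}

theorem lft_of_isUniversal (hH : HilbD.IsUniversal f n H Z)
    (hfin : ∀ E : Set Y, E.Finite → ∃ U : Y.Opens, IsAffineOpen U ∧ E ⊆ U) :
    LocallyOfFiniteType H.hom := by
  obtain ⟨⟨hZf, -, -⟩, -⟩ := Z.2
  haveI := hZf
  have hloc : ∀ y : H.left, ∃ (T' : Over (Spec (CommRingCat.of k))) (g : T' ⟶ H),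
      IsOpenImmersion g.left ∧ y ∈ Set.range g.left ∧ LocallyOfFiniteType T'.hom := by
    intro y
    obtain ⟨U, hU, hUy⟩ := hfin _
      (((Z.1.subschemeι ≫ PicF.XTproj f H).finite_preimage_singleton y).image
        (Z.1.subschemeι ≫ pullback.fst f H.hom))
    obtain ⟨P, hP⟩ := exists_piece (f := f) U hU
    let c₀ := P.chart n
    have hy : H.hom y ∈ Set.range c₀.i := ⟨H.hom y, rfl⟩
    have hfib : ∀ w : Z.1.subscheme, (Z.1.subschemeι ≫ PicF.XTproj f H) w = y →
        (Z.1.subschemeι ≫ pullback.fst f H.hom) w ∈ Set.range c₀.j := fun w hw => by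
      show _ ∈ Set.range P.j
      rw [hP]
      exact hUy ⟨w, hw, rfl⟩
    obtain ⟨A, hA, hAlg, e, he, hye, hr⟩ := c₀.exists_affine_nbhd Z y hy hfib
    obtain ⟨p, hp⟩ := hye
    obtain ⟨K, hKfin, hKproj, hrank, -, hK⟩ := c₀.exists_coord _ (isFinLocFreeOfDeg_pull f e Z.1 Z.2) hr
    haveI := hKfin; haveI := hKproj
    obtain ⟨s, hs⟩ := exists_sections (K := K) p (hrank p)
    obtain ⟨T', g, hg, hmem, h, hh⟩ := (c₀.setS s).exists_chart_nbhd Z e hr p hK hs
    refine ⟨T', g, hg, hp ▸ hmem, ?_⟩
    obtain ⟨v, hv⟩ := (hH _ (c₀.setS s).univObj).exists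
    have hgv : h ≫ v = g := hom_ext_of_isUniversal f hH _ _ (by rw [pull_comp, hv, hh])
    haveI : Algebra.FiniteType k (ChartRing k P.B s) := finiteType_chartRing s
    haveI : LocallyOfFiniteType ((c₀.setS s).over (ChartRing k P.B s)).hom := by
      haveI : LocallyOfFiniteType (Spec.map (CommRingCat.ofHom (algebraMap k (ChartRing k P.B s)))) :=
        (HasRingHomProperty.Spec_iff (P := @LocallyOfFiniteType)).2
          (RingHom.finiteType_algebraMap.2 inferInstance)
      show LocallyOfFiniteType (Spec.map _ ≫ 𝟙 _)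
      infer_instance
    haveI : LocallyOfFiniteType h.left := by
      haveI : LocallyOfFiniteType (h.left ≫ v.left) := by
        rw [← Over.comp_left, hgv]
        haveI := hg
        infer_instance
      exact locallyOfFiniteType_of_comp h.left v.left
    rw [← Over.w h]
    infer_instance
  choose T g hg hmem hT using hloc
  haveI := hg
  let 𝒰 : H.left.OpenCover := Scheme.Cover.mkOfCovers H.left (fun y => (T y).left) (fun y => (g y).left)
    (fun y => by
      obtain ⟨z, hz⟩ := hmem y
      exact ⟨y, z, hz⟩) (fun y => hg y)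
  refine (IsZariskiLocalAtSource.iff_of_openCover (P := @LocallyOfFiniteType) 𝒰).2 fun y => ?_
  show LocallyOfFiniteType ((g y).left ≫ H.hom)
  rw [Over.w]
  exact hT y

end Groth.L11.HilbConn
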