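import Groth.Agent.L11.HilbConn.Start
import Mathlib.RingTheory.LocalRing.Module
import Mathlib.AlgebraicGeometry.Morphisms.Finite

/-!
# The punctual Hilbert scheme
-/

set_option autoImplicit false
set_option linter.style.haveILetI false
set_option linter.unusedSectionVars false
set_option backward.isDefEq.respectTransparency false
set_option backward.isDefEq.respectTransparency.types false

universe u

open CategoryTheory CategoryTheory.Limits AlgebraicGeometry TopologicalSpace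
open scoped TensorProduct
open Groth.L02.Hilb Groth.L13.BU

noncomputable section

namespace Groth.L11.HilbConn

variable {k : Type u} [Field k] [IsAlgClosed k] {R : Type u} [CommRing R] [Algebra k R] [IsLocalRing R]
  [Module.Finite k R]

theorem char_unique (χ χ' : R →ₐ[k] k) : χ = χ' := by
  have h : ∀ ψ : R →ₐ[k] k, RingHom.ker ψ = IsLocalRing.maximalIdeal R := fun ψ =>
    IsLocalRing.eq_maximalIdeal (RingHom.ker_isMaximal_of_surjective ψ fun c => ⟨algebraMap k R c, ψ.commutes c⟩)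
  exact eq_of_ker_le ((h χ').trans (h χ).symm).le

/-- The functional for a punctual family: a nonzero functional on `K / m K`. -/
theorem exists_functional_local {n : ℕ} (hn : n < Module.finrank k R) {L : Type u} [Field L] [Algebra k L]
    {KL : Ideal (L ⊗[k] R)} (hK : IsFam n KL) (χ : R →ₐ[k] k) :
    ∃ Ψ : (L ⊗[k] R) →ₗ[L] L, (∃ t ∈ KL, Ψ t ≠ 0) ∧
      ∀ t ∈ KL, ∀ r, Ψ (r * t) = ev ((Algebra.ofId k L).comp χ) r * Ψ t := by
  haveI : IsArtinianRing R := IsArtinianRing.of_finite k R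
  let M : Ideal (L ⊗[k] R) :=
    (IsLocalRing.maximalIdeal R).map (Algebra.TensorProduct.includeRight : R →ₐ[k] L ⊗[k] R)
  obtain ⟨N, hN⟩ := IsArtinianRing.isNilpotent_jacobson_bot (R := R)
  rw [IsLocalRing.jacobson_eq_maximalIdeal ⊥ bot_ne_top, Ideal.zero_eq_bot] at hN
  have hMN : M ^ N = ⊥ := by
    rw [← Ideal.map_pow, hN, Ideal.map_bot]
  have hne : ¬ KL ≤ M * KL := by
    intro hle
    have hall : ∀ j, KL ≤ M ^ j * KL := fun j => by
      induction j with
      | zero => simp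
      | succ j ih =>
        refine ih.trans ((Ideal.mul_mono_right hle).trans ?_)
        rw [← mul_assoc, ← pow_succ]
    have h0 : KL = ⊥ := le_bot_iff.1 ((hall N).trans (by rw [hMN, Ideal.bot_mul]))
    haveI := hK.fin
    have h1 : Module.finrank L ((L ⊗[k] R) ⧸ KL) = n := by
      rw [← hK.rank (Classical.arbitrary _), Module.rankAtStalk_eq_finrank_of_free]
      rfl
    subst h0
    rw [(AlgEquiv.quotientBot L (L ⊗[k] R)).toLinearEquiv.finrank_eq, Module.finrank_baseChange] at h1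
    omega
  obtain ⟨i, hi, hiM⟩ := SetLike.not_le_iff_exists.1 hne
  obtain ⟨g, hg1, hg2⟩ := LinearMap.exists_extend_of_notMem (p := (M * KL).restrictScalars L) 0 (v := i) hiM (1 : L)
  refine ⟨g, ⟨i, hi, by rw [hg2]; exact one_ne_zero⟩, fun t ht r => ?_⟩
  have hsub : ∀ r : L ⊗[k] R, r - algebraMap L _ (ev ((Algebra.ofId k L).comp χ) r) ∈ M := fun r => by
    induction r using TensorProduct.induction_on with
    | zero => simp
    | tmul l b =>
      have h2 : b - algebraMap k R (χ b) ∈ IsLocalRing.maximalIdeal R := by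
        rw [← IsLocalRing.eq_maximalIdeal (RingHom.ker_isMaximal_of_surjective χ fun c => ⟨algebraMap k R c, χ.commutes c⟩),
          RingHom.mem_ker, map_sub, AlgHom.commutes]
        exact sub_self _
      have h3 := M.mul_mem_left (l ⊗ₜ[k] (1 : R))
        (Ideal.mem_map_of_mem (Algebra.TensorProduct.includeRight : R →ₐ[k] L ⊗[k] R) h2)
      have e : l ⊗ₜ[k] b - algebraMap L (L ⊗[k] R) (ev ((Algebra.ofId k L).comp χ) (l ⊗ₜ[k] b)) =
          (l ⊗ₜ[k] (1 : R)) * (Algebra.TensorProduct.includeRight : R →ₐ[k] L ⊗[k] R) (b - algebraMap k R (χ b)) := by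
        rw [ev_tmul, map_sub, mul_sub, Algebra.TensorProduct.includeRight_apply,
          Algebra.TensorProduct.tmul_mul_tmul, mul_one, one_mul, AlgHom.commutes,
          IsScalarTower.algebraMap_apply k L (L ⊗[k] R), map_mul]
        rfl
      rw [e]; exact h3
    | add u v hu hv =>
      rw [map_add, map_add, add_sub_add_comm]; exact add_mem hu hv
  have hz : ∀ z ∈ M * KL, g z = 0 := fun z hz => by
    have := LinearMap.congr_fun hg1 ⟨z, hz⟩
    simpa using this
  have h4 := hz _ (Ideal.mul_mem_mul (hsub r) ht)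
  rw [sub_mul, map_sub, ← Algebra.smul_def, map_smul, sub_eq_zero] at h4
  exact h4

section Step

variable {f : Spec (CommRingCat.of R) ⟶ Spec (CommRingCat.of k)} [IsSeparated f] [LocallyOfFiniteType f]
variable {n : ℕ} {H₀ H₁ : Over (Spec (CommRingCat.of k))} {Z₀ : HilbD.Obj f n H₀} {Z₁ : HilbD.Obj f (n + 1) H₁}
  (hH₀ : HilbD.IsUniversal f n H₀ Z₀) (hH₁ : HilbD.IsUniversal f (n + 1) H₁ Z₁)

include hH₀ hH₁ in
/-- The induction step for a finite local algebra. -/
theorem preconnectedSpace_succ_local (hf : f = Spec.map (CommRingCat.ofHom (algebraMap k R)))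
    [LocallyOfFiniteType H₀.hom] [LocallyOfFiniteType H₁.hom] [PreconnectedSpace H₀.left] :
    PreconnectedSpace H₁.left := by
  classical
  haveI : JacobsonSpace H₀.left := LocallyOfFiniteType.jacobsonSpace H₀.hom
  haveI : JacobsonSpace H₁.left := LocallyOfFiniteType.jacobsonSpace H₁.hom
  let P : Piece f := { B := R, j := 𝟙 _, w := by rw [Category.id_comp, hf] }
  have hPr : ∀ E : Set (Spec (CommRingCat.of R)), E ⊆ Set.range P.j := fun E z _ => ⟨z, rfl⟩
  rcases Set.eq_empty_or_nonempty (closedPoints H₁.left) with he | ⟨w₀, hw₀⟩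
  · haveI : IsEmpty H₁.left := Set.univ_eq_empty_iff.1
      ((closure_closedPoints (X := H₁.left)).symm.trans (by rw [he, closure_empty]))
    exact ⟨fun u v _ _ _ hu _ => by obtain ⟨x, -⟩ := hu; exact isEmptyElim x⟩
  have hext : ∀ w : closedPoints H₁.left, ∃ (a J : Ideal (k ⊗[k] R)) (χ : R →ₐ[k] k) (h : IsExt n a χ J),
      (toH hH₁ P h.fam₁).left p₀ = w.1 := fun w => by
    obtain ⟨x, hx⟩ := exists_point (H := H₁) w.2
    obtain ⟨J, hJ, hJx⟩ := exists_toH_eq hH₁ P x (hPr _)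
    obtain ⟨a, χ, h⟩ := exists_isExt hJ
    exact ⟨a, J, χ, h, by rw [← hx, ← hJx]⟩
  obtain ⟨a₀, J₀, χ, hJ₀, -⟩ := hext ⟨w₀, hw₀⟩
  have hn : n < Module.finrank k R := by
    haveI := hJ₀.fam₁.fin
    have h1 := LinearMap.finrank_le_finrank_of_surjective (R := k) (f := (Ideal.Quotient.mkₐ k J₀).toLinearMap)
      Ideal.Quotient.mk_surjective
    rw [hJ₀.fam₁.finrank_eq, Module.finrank_baseChange] at h1
    omega
  have hloc : ∀ x₀ : TA (k := k) k ⟶ H₀, ∃ U : Set H₀.left, IsOpen U ∧ x₀.left p₀ ∈ U ∧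
      ∀ x : TA (k := k) k ⟶ H₀, x.left p₀ ∈ U →
        ∃ v, ExtCls hH₀ hH₁ x (P.pt χ) v ∧ ExtCls hH₀ hH₁ x₀ (P.pt χ) v := by
    intro x₀
    obtain ⟨U, hUo, hxU, hU⟩ := exists_nhd_family hH₀ P x₀ (hPr _)
    refine ⟨U, hUo, hxU, fun x hx => ?_⟩
    obtain ⟨A, _, _, _, K, hK, φ, φ₀, Q, hQ, hQφ, hQ₀, hφ, hφ₀⟩ := hU x hx
    haveI := hQ
    let L := FractionRing (A ⧸ Q)
    let ι : A →ₐ[k] L := (IsScalarTower.toAlgHom k (A ⧸ Q) L).comp (Ideal.Quotient.mkₐ k Q)
    have hι : ∀ a, ι a = 0 → a ∈ Q := fun a ha => by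
      change algebraMap (A ⧸ Q) L (Ideal.Quotient.mk Q a) = 0 at ha
      rwa [map_eq_zero_iff _ (IsFractionRing.injective (A ⧸ Q) L), Ideal.Quotient.eq_zero_iff_mem] at ha
    obtain ⟨Ψ, ⟨t, ht, htne⟩, hΨ⟩ := exists_functional_local hn (hK.map ι) χ
    have hcomp : ι.comp ((Algebra.ofId k A).comp χ) = (Algebra.ofId k L).comp χ := AlgHom.ext fun b => ι.commutes _
    obtain ⟨v, hv⟩ := exists_class (isClass_cls P hH₁) hK ((Algebra.ofId k A).comp χ) ι Ψ (fun s t => map_add Ψ s t)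
      (by rw [hcomp]; exact hΨ) (by
        by_contra hall
        push Not at hall
        refine htne ?_
        clear htne
        induction ht using Submodule.span_induction with
        | mem y hy => obtain ⟨y₀, hy₀, rfl⟩ := hy; exact hall y₀ hy₀
        | zero => exact map_zero _
        | add a b _ _ ha hb => rw [map_add, ha, hb, add_zero]
        | smul r y hy' hy => rw [smul_eq_mul, hΨ y hy' r, hy, mul_zero])
    have e : ∀ ψ : A →ₐ[k] k, ψ.comp ((Algebra.ofId k A).comp χ) = χ := fun ψ => char_unique _ _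
    obtain ⟨J, hJ, hJv⟩ := hv φ fun a ha => hQφ (hι a ha)
    obtain ⟨J', hJ', hJv'⟩ := hv φ₀ fun a ha => hQ₀ (hι a ha)
    rw [e] at hJ hJ'
    exact ⟨v, ⟨P, χ, _, J, hJ, hφ, rfl, hJv⟩, ⟨P, χ, _, J', hJ', hφ₀, rfl, hJv'⟩⟩
  choose pnt hpnt using fun z : closedPoints H₀.left => exists_point (H := H₀) z.2
  have hexv : ∀ z, ∃ v, ExtCls hH₀ hH₁ (pnt z) (P.pt χ) v := fun z => by
    obtain ⟨U, -, hzU, hU⟩ := hloc (pnt z)
    obtain ⟨v, hv, -⟩ := hU _ hzU
    exact ⟨v, hv⟩
  choose c hc using hexv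
  have hconst := eq_of_locally_constant c fun z => by
    obtain ⟨U, hUo, hzU, hU⟩ := hloc (pnt z)
    refine ⟨U, hUo, hpnt z ▸ hzU, fun w hw => ?_⟩
    obtain ⟨v, hv, hv'⟩ := hU (pnt w) ((hpnt w).symm ▸ hw)
    rw [(hc w).unique hH₀ hH₁ hv, (hc z).unique hH₀ hH₁ hv']
  have hsame : ∀ w : closedPoints H₁.left, ∃ z, some (ConnectedComponents.mk w.1) = c z := fun w => by
    obtain ⟨a, J, χ', h, hw⟩ := hext w
    let z : closedPoints H₀.left := ⟨_, isClosed_point (toH hH₀ P h.fam₀)⟩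
    refine ⟨z, ?_⟩
    have hz : pnt z = toH hH₀ P h.fam₀ := point_ext (hpnt z)
    have hE : ExtCls hH₀ hH₁ (pnt z) (P.pt χ) (some (ConnectedComponents.mk w.1)) :=
      ⟨P, χ', a, J, h, hz.symm, congrArg P.pt (char_unique χ' χ), by rw [cls_eq hH₁ P h.fam₁, hw]⟩
    exact (ExtCls.unique hH₀ hH₁ (hc z) hE).symm
  haveI : ConnectedSpace H₁.left := connectedSpace_iff_connectedComponent.2 ⟨w₀, Set.univ_subset_iff.1 (by
    rw [← closure_closedPoints (X := H₁.left)]
    refine closure_minimal (fun w hw => ?_) isClosed_connectedComponent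
    obtain ⟨z, hz⟩ := hsame ⟨w, hw⟩
    obtain ⟨z₀, hz₀⟩ := hsame ⟨w₀, hw₀⟩
    rw [hconst z z₀, ← hz₀, Option.some_inj, ConnectedComponents.coe_eq_coe'] at hz
    exact hz)⟩
  infer_instance

end Step

end Groth.L11.HilbConn
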