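import Groth.Agent.L11.HilbConn.Lft
import Mathlib.RingTheory.Spectrum.Prime.Topology
import Mathlib.Topology.Sober
import Mathlib.AlgebraicGeometry.Properties

/-!
# From `n` points to `n + 1` points
-/

set_option autoImplicit false
set_option linter.style.haveILetI false
set_option linter.unusedSectionVars false
set_option backward.isDefEq.respectTransparency false
set_option backward.isDefEq.respectTransparency.types false

universe u

open CategoryTheory CategoryTheory.Limits AlgebraicGeometry TopologicalSpace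
open scoped TensorProduct
open Groth.L02.Hilb Groth.L13.BU

noncomputable section

namespace Groth.L11.HilbConn

/-- A locally constant function on the closed points of a preconnected Jacobson space is constant. -/
theorem eq_of_locally_constant {X : Type u} [TopologicalSpace X] [JacobsonSpace X] [PreconnectedSpace X]
    {α : Type*} (c : closedPoints X → α)
    (hc : ∀ x : closedPoints X, ∃ U : Set X, IsOpen U ∧ x.1 ∈ U ∧ ∀ z : closedPoints X, z.1 ∈ U → c z = c x)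
    (x y : closedPoints X) : c x = c y := by
  choose U hUo hxU hU using hc
  let W : α → Set X := fun v => ⋃ z : {z : closedPoints X // c z = v}, U z.1
  have hWo : ∀ v, IsOpen (W v) := fun v => isOpen_iUnion fun z => hUo z.1
  have hdisj : ∀ v w, v ≠ w → ∀ a ∈ W v, a ∉ W w := fun v w hvw a ha hb => by
    obtain ⟨z, hzW, hz⟩ := nonempty_inter_closedPoints (Z := W v ∩ W w) ⟨a, ha, hb⟩
      (((hWo v).inter (hWo w)).isLocallyClosed)
    obtain ⟨i, hi⟩ := Set.mem_iUnion.1 hzW.1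
    obtain ⟨j, hj⟩ := Set.mem_iUnion.1 hzW.2
    exact hvw ((i.2.symm.trans (hU i.1 ⟨z, hz⟩ hi).symm).trans ((hU j.1 ⟨z, hz⟩ hj).trans j.2))
  have hcov : ∀ a : X, ∃ v, a ∈ W v := fun a => by
    by_contra hcon
    push Not at hcon
    obtain ⟨z, hzW, hz⟩ := nonempty_inter_closedPoints (Z := (⋃ v, W v)ᶜ) ⟨a, fun h => by
      obtain ⟨v, hv⟩ := Set.mem_iUnion.1 h; exact hcon v hv⟩ (isOpen_iUnion hWo).isClosed_compl.isLocallyClosed
    exact hzW (Set.mem_iUnion.2 ⟨c ⟨z, hz⟩, Set.mem_iUnion.2 ⟨⟨⟨z, hz⟩, rfl⟩, hxU ⟨z, hz⟩⟩⟩)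
  have hclopen : IsClopen (W (c x)) := by
    refine ⟨⟨?_⟩, hWo _⟩
    rw [show (W (c x))ᶜ = ⋃ w : {w : α // w ≠ c x}, W w.1 from Set.ext fun a => ⟨fun ha => by
      obtain ⟨v, hv⟩ := hcov a
      exact Set.mem_iUnion.2 ⟨⟨v, fun e => ha (e ▸ hv)⟩, hv⟩,
      fun ha => by
        obtain ⟨w, hw⟩ := Set.mem_iUnion.1 ha
        exact hdisj _ _ w.2 a hw⟩]
    exact isOpen_iUnion fun w => hWo _
  have hy : y.1 ∈ W (c x) := by
    rw [hclopen.eq_univ ⟨x.1, Set.mem_iUnion.2 ⟨⟨x, rfl⟩, hxU x⟩⟩]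
    trivial
  obtain ⟨i, hi⟩ := Set.mem_iUnion.1 hy
  exact (i.2.symm.trans (hU i.1 y hi).symm)

/-- A function on closed points constant on irreducible components is constant on a connected Noetherian space. -/
theorem eq_of_constant_on_components {X : Type u} [TopologicalSpace X] [JacobsonSpace X] [PreconnectedSpace X]
    [NoetherianSpace X] {α : Type*} (c : closedPoints X → α)
    (hc : ∀ C ∈ irreducibleComponents X, ∀ x y : closedPoints X, x.1 ∈ C → y.1 ∈ C → c x = c y)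
    (x y : closedPoints X) : c x = c y := by
  refine eq_of_locally_constant c (fun x => ?_) x y
  let Bad := {C ∈ irreducibleComponents X | x.1 ∉ C}
  refine ⟨(⋃₀ Bad)ᶜ, IsClosed.isOpen_compl (self := ?_), ?_, fun z hz => ?_⟩
  · rw [Set.sUnion_eq_biUnion]
    exact Set.Finite.isClosed_biUnion (NoetherianSpace.finite_irreducibleComponents.subset fun C (hC : C ∈ Bad) => hC.1)
      (fun C (hC : C ∈ Bad) => isClosed_of_mem_irreducibleComponents C hC.1)
  · rintro ⟨C, hC, hxC⟩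
    exact hC.2 hxC
  · have hzC : z.1 ∈ irreducibleComponent z.1 := mem_irreducibleComponent
    have hmem := irreducibleComponent_mem_irreducibleComponents z.1
    have hxC : x.1 ∈ irreducibleComponent z.1 := by
      by_contra h
      exact hz ⟨_, ⟨hmem, h⟩, hzC⟩
    exact hc _ hmem z x hzC hxC

variable {k : Type u} [Field k] [IsAlgClosed k] {Y : Scheme.{u}} {f : Y ⟶ Spec (CommRingCat.of k)}
variable [IsSeparated f] [LocallyOfFiniteType f]

theorem isMaximal_of_finite {T : Type u} [CommRing T] [Algebra k T] (a p : Ideal T) [Module.Finite k (T ⧸ a)]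
    [p.IsPrime] (h : a ≤ p) : p.IsMaximal := by
  haveI : Module.Finite k (T ⧸ p) := Module.Finite.of_surjective (Ideal.Quotient.factorₐ k h).toLinearMap
    (Ideal.Quotient.factor_surjective h)
  haveI : Algebra.IsIntegral k (T ⧸ p) := inferInstance
  exact Ideal.Quotient.maximal_of_isField p (isField_of_isIntegral_of_isField' (Field.toIsField k))

theorem TA_hom_eq : (TA (k := k) k).hom = 𝟙 _ := by
  show Spec.map (CommRingCat.ofHom (algebraMap k k)) ≫ 𝟙 _ = _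
  rw [Category.comp_id]
  exact (congrArg Spec.map (CommRingCat.hom_ext (RingHom.ext fun _ => rfl))).trans (Spec.map_id _)

section Points

variable {H : Over (Spec (CommRingCat.of k))} [LocallyOfFiniteType H.hom]

theorem exists_point {z : H.left} (hz : IsClosed ({z} : Set H.left)) : ∃ x : TA (k := k) k ⟶ H, x.left p₀ = z :=
  ⟨Over.homMk (pointOfClosedPoint H.hom z hz) ((pointOfClosedPoint_comp H.hom z hz).trans TA_hom_eq.symm),
    pointOfClosedPoint_apply H.hom z hz _⟩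

theorem point_ext {x x' : TA (k := k) k ⟶ H} (h : x.left p₀ = x'.left p₀) : x = x' :=
  Over.OverMorphism.ext (ext_of_apply_closedPoint_eq H.hom ((Over.w x).trans TA_hom_eq)
    ((Over.w x').trans TA_hom_eq) h)

theorem isClosed_point (x : TA (k := k) k ⟶ H) : IsClosed ({x.left p₀} : Set H.left) :=
  ((pointEquivClosedPoint H.hom) ⟨x.left, (Over.w x).trans TA_hom_eq⟩).2

end Points

section Step

variable {n : ℕ} {H₀ H₁ : Over (Spec (CommRingCat.of k))} {Z₀ : HilbD.Obj f n H₀} {Z₁ : HilbD.Obj f (n + 1) H₁}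
  (hH₀ : HilbD.IsUniversal f n H₀ Z₀) (hH₁ : HilbD.IsUniversal f (n + 1) H₁ Z₁)

/-- An extension of `x₀` at `y` lies in the component `v`. -/
def ExtCls (x₀ : TA (k := k) k ⟶ H₀) (y : Y) (v : Option (ConnectedComponents H₁.left)) : Prop :=
  ∃ (P : Piece f) (χ : P.B →ₐ[k] k) (a J : Ideal (k ⊗[k] P.B)) (h : IsExt n a χ J),
    toH hH₀ P h.fam₀ = x₀ ∧ P.pt χ = y ∧ cls hH₁ P J = v

variable (hfin : ∀ E : Set Y, E.Finite → ∃ U : Y.Opens, IsAffineOpen U ∧ E ⊆ U)

theorem ExtCls.unique {x₀ : TA (k := k) k ⟶ H₀} {y : Y} {v v' : Option (ConnectedComponents H₁.left)}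
    (h : ExtCls hH₀ hH₁ x₀ y v) (h' : ExtCls hH₀ hH₁ x₀ y v') : v = v' := by
  obtain ⟨P, χ, a, J, he, rfl, rfl, rfl⟩ := h
  obtain ⟨P', χ', a', J', he', hx, hy, rfl⟩ := h'
  let W : Y.Opens := P.j.opensRange ⊓ P'.j.opensRange
  haveI : IsSeparated (terminal.from Y) := by
    rw [show terminal.from Y = f ≫ terminal.from _ from terminal.hom_ext _ _]; infer_instance
  haveI : Y.IsSeparated := ⟨inferInstance⟩
  have hW : IsAffineOpen W := (isAffineOpen_opensRange P.j).inf (isAffineOpen_opensRange P'.j)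
  obtain ⟨Q, hQ⟩ := exists_piece (f := f) W hW
  obtain ⟨θ, hθ⟩ := P.exists_hom Q (hQ ▸ fun z hz => hz.1)
  obtain ⟨θ', hθ'⟩ := P'.exists_hom Q (hQ ▸ fun z hz => hz.2)
  have hsupp : P.supp a = P'.supp a' := by
    rw [← suppPt_toH hH₀ P he.fam₀, ← hx, suppPt_toH]
  have hsub : P.supp a ⊆ Set.range P.j ∧ P'.supp a' ⊆ Set.range P'.j := by
    constructor <;> rintro _ ⟨p, -, rfl⟩
    · exact ⟨_, (Piece.fst_μ P p).symm⟩
    · exact ⟨_, (Piece.fst_μ P' p).symm⟩
  have hin : P.supp a ⊆ Set.range Q.j := fun z hz => hQ ▸ ⟨hsub.1 hz, hsub.2 (hsupp ▸ hz)⟩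
  have hyin : P.pt χ ∈ Set.range Q.j := hQ ▸ ⟨⟨_, rfl⟩, hy ▸ ⟨_, rfl⟩⟩
  obtain ⟨ψ, hψ, hext⟩ := Piece.change_isExt θ hθ he hin hyin
  obtain ⟨ψ', hψ', hext'⟩ := Piece.change_isExt θ' hθ' he' (hsupp ▸ hin) (hy ▸ hyin)
  have hψψ : ψ = ψ' := pt_injective Q (by rw [hψ, hψ', hy])
  subst hψψ
  have key : ∀ {m : ℕ} {H : Over (Spec (CommRingCat.of k))} {Z : HilbD.Obj f m H}
      (hH : HilbD.IsUniversal f m H Z) {R : Piece f} (η : R.B →ₐ[k] Q.B)
      (hη : Spec.map (CommRingCat.ofHom η.toRingHom) ≫ R.j = Q.j) {K : Ideal (k ⊗[k] R.B)} (hK : IsFam m K)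
      (hs : R.supp K ⊆ Set.range Q.j) (hK' : IsFam m (K.map (Algebra.TensorProduct.map (AlgHom.id k k) η).toRingHom)),
      toH hH Q hK' = toH hH R hK := fun {m H Z} hH {R} η hη {K} hK hs hK' =>
    hom_ext_of_isUniversal f hH _ _ (by rw [pull_toH, pull_toH, (Piece.change_fam η hη hK hs).2])
  have haa : Ideal.map (Algebra.TensorProduct.map (AlgHom.id k k) θ).toRingHom a =
      Ideal.map (Algebra.TensorProduct.map (AlgHom.id k k) θ').toRingHom a' :=
    eq_of_toH_eq hH₀ Q hext.fam₀ hext'.fam₀ (by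
      rw [key hH₀ θ hθ he.fam₀ hin hext.fam₀, key hH₀ θ' hθ' he'.fam₀ (hsupp ▸ hin) hext'.fam₀, hx])
  have h1 := cls_eq_of_isExt (isClass_cls Q hH₁) hext (haa ▸ hext')
  rw [cls_eq hH₁ Q hext.fam₁, cls_eq hH₁ Q hext'.fam₁] at h1
  rw [cls_eq hH₁ P he.fam₁, cls_eq hH₁ P' he'.fam₁]
  rwa [key hH₁ θ hθ he.fam₁ ((P.supp_isExt he).trans (Set.union_subset hin (Set.singleton_subset_iff.2 hyin)))
      hext.fam₁,
    key hH₁ θ' hθ' he'.fam₁ ((P'.supp_isExt he').trans (Set.union_subset (hsupp ▸ hin)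
      (Set.singleton_subset_iff.2 (hy ▸ hyin)))) hext'.fam₁] at h1

include hfin in
/-- Along a component of `Y` the class does not change. -/
theorem exists_extCls_component (x₀ : TA (k := k) k ⟶ H₀) {C : Set Y} (hC : C ∈ irreducibleComponents Y)
    (hC₂ : C.Nontrivial) (y y' : closedPoints Y) (hy : y.1 ∈ C) (hy' : y'.1 ∈ C) :
    ∃ v, ExtCls hH₀ hH₁ x₀ y.1 v ∧ ExtCls hH₀ hH₁ x₀ y'.1 v := by
  obtain ⟨U, hU, hEU⟩ := hfin (suppPt Z₀ x₀ ∪ {y.1, y'.1})
    ((finite_suppPt x₀).union ((Set.finite_singleton _).insert _))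
  obtain ⟨P, hP⟩ := exists_piece (f := f) U hU
  obtain ⟨a, ha, hax⟩ := exists_toH_eq hH₀ P x₀ (hP ▸ (Set.subset_union_left.trans hEU))
  obtain ⟨χ, hχ⟩ := exists_char P y.2 (hP ▸ hEU (Or.inr (Or.inl rfl)))
  obtain ⟨χ', hχ'⟩ := exists_char P y'.2 (hP ▸ hEU (Or.inr (Or.inr rfl)))
  have hCi := hC.1
  have hCc := isClosed_of_mem_irreducibleComponents C hC
  have hξ : IsGenericPoint hCi.genericPoint C := by
    have := hCi.isGenericPoint_genericPoint_closure
    rwa [hCc.closure_eq] at this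
  have hspec : hCi.genericPoint ⤳ y.1 := hξ.specializes hy
  have hξU : hCi.genericPoint ∈ Set.range P.j := by
    rw [hP]; exact hspec.mem_open U.2 (hEU (Or.inr (Or.inl rfl)))
  obtain ⟨q, hq⟩ := hξU
  have hle : ∀ (y : closedPoints Y) (χ : P.B →ₐ[k] k), y.1 ∈ C → P.pt χ = y.1 → q.asIdeal ≤ RingHom.ker χ := by
    intro y χ hy hχ
    have h1 : q ⤳ PrimeSpectrum.comap χ.toRingHom (IsLocalRing.closedPoint k) :=
      P.j.isOpenEmbedding.isInducing.specializes_iff.1 (by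
        rw [hq]
        show _ ⤳ P.pt χ
        rw [hχ]
        exact hξ.specializes hy)
    rw [← asIdeal_comap_closedPoint]
    exact (PrimeSpectrum.le_iff_specializes q _).2 h1
  have hnot : ∃ t ∈ constFam P.B a, ev (AlgHom.id k P.B) t ∉ q.asIdeal := by
    by_contra hall
    push Not at hall
    let lid : k ⊗[k] P.B →+* P.B := ((ev (AlgHom.id k P.B)).toRingHom.comp (tmap P.B (Algebra.ofId k P.B)).toRingHom)
    have hlid : Function.Surjective lid := fun b => ⟨(1 : k) ⊗ₜ[k] b, by simp [lid]⟩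
    have hsub : a ≤ q.asIdeal.comap lid := fun t ht => hall _ (Ideal.mem_map_of_mem _ ht)
    haveI := ha.fin
    haveI hmax : (q.asIdeal.comap lid).IsMaximal := isMaximal_of_finite (k := k) a _ hsub
    have hqmax : q.asIdeal.IsMaximal := by
      have := Ideal.map_eq_top_or_isMaximal_of_surjective lid hlid hmax
      rw [Ideal.map_comap_of_surjective lid hlid] at this
      exact this.resolve_left q.2.ne_top
    have hclosed : IsClosed ({hCi.genericPoint} : Set Y) := by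
      have e : q.asIdeal = RingHom.ker χ := hqmax.eq_of_le (RingHom.ker_ne_top χ) (hle y χ hy hχ)
      have e' : q = PrimeSpectrum.comap χ.toRingHom (IsLocalRing.closedPoint k) :=
        PrimeSpectrum.ext (e.trans (asIdeal_comap_closedPoint χ).symm)
      have e'' : hCi.genericPoint = y.1 := by rw [← hq, e', ← hχ]; rfl
      rw [e'']; exact y.2
    refine Set.not_nontrivial_singleton (α := Y) (x := hCi.genericPoint) ?_
    rwa [← hξ.def, hclosed.closure_eq] at hC₂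
  obtain ⟨v, hv⟩ := exists_class_ev (isClass_cls P hH₁) (ha.map (Algebra.ofId k P.B))
    (AlgHom.id k P.B) q.asIdeal hnot
  refine ⟨v, ?_, ?_⟩
  · obtain ⟨J, hJ, hJv⟩ := hv χ (hle y χ hy hχ)
    rw [show (constFam P.B a).map (tmap P.B χ) = a from constFam_map χ a, AlgHom.comp_id] at hJ
    exact ⟨P, χ, a, J, hJ, hax, hχ, hJv⟩
  · obtain ⟨J, hJ, hJv⟩ := hv χ' (hle y' χ' hy' hχ')
    rw [show (constFam P.B a).map (tmap P.B χ') = a from constFam_map χ' a, AlgHom.comp_id] at hJ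
    exact ⟨P, χ', a, J, hJ, hax, hχ', hJv⟩

/-- Near a point the Hilbert scheme is given by a family on an affine piece. -/
theorem exists_nhd_family [LocallyOfFiniteType H₀.hom] (P : Piece f) (x₀ : TA (k := k) k ⟶ H₀)
    (hx₀ : suppPt Z₀ x₀ ⊆ Set.range P.j) :
    ∃ U : Set H₀.left, IsOpen U ∧ x₀.left p₀ ∈ U ∧ ∀ x : TA (k := k) k ⟶ H₀, x.left p₀ ∈ U →
      ∃ (A : Type u) (_ : CommRing A) (_ : Algebra k A) (_ : Algebra.FiniteType k A) (K : Ideal (A ⊗[k] P.B))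
        (hK : IsFam n K) (φ φ₀ : A →ₐ[k] k) (Q : Ideal A), Q.IsPrime ∧ Q ≤ RingHom.ker φ ∧ Q ≤ RingHom.ker φ₀ ∧
          toH hH₀ P (hK.map φ) = x ∧ toH hH₀ P (hK.map φ₀) = x₀ := by
  classical
  have hfib : ∀ w : Z₀.1.subscheme, (Z₀.1.subschemeι ≫ PicF.XTproj f H₀) w = x₀.left p₀ →
      (Z₀.1.subschemeι ≫ pullback.fst f H₀.hom) w ∈ Set.range P.j := by
    intro w hw
    refine hx₀ ?_
    obtain ⟨p, hp1, hp2⟩ := Scheme.Pullback.exists_preimage_pullback
      (f := Z₀.1.subschemeι ≫ PicF.XTproj f H₀) (g := x₀.left) w p₀ hw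
    have sq := isPullback_comap (isPullback_XTmap f x₀) Z₀.1
    let v := sq.isoPullback.inv p
    have hv : (Z₀.1.comap (PicF.XTmap f x₀)).subschemeι ≫ pullback.fst f (TA (k := k) k).hom =
        ((Z₀.1.comapIso (PicF.XTmap f x₀)).hom ≫ pullback.snd _ _) ≫ Z₀.1.subschemeι ≫ pullback.fst f H₀.hom := by
      rw [Category.assoc, ← pullback.condition_assoc, Scheme.IdealSheafData.comapIso_hom_fst_assoc, XTmap_fst]
    show _ ∈ Set.range ((HilbD.pull f x₀ Z₀.1).subschemeι ≫ pullback.fst f (TA (k := k) k).hom)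
    rw [pull_eq]
    refine ⟨v, ?_⟩
    rw [hv, Scheme.Hom.comp_apply, ← hp1]
    congr 1
    show _ = (pullback.fst (Z₀.1.subschemeι ≫ PicF.XTproj f H₀) x₀.left) p
    rw [← sq.isoPullback_inv_fst]
    simp only [v, Scheme.Hom.comp_apply]
  obtain ⟨A, hA, hAlg, e₀, he₀', hye, hr⟩ := (P.chart n).exists_affine_nbhd Z₀ (x₀.left p₀)
    (show H₀.hom _ ∈ Set.range (P.chart n).i from ⟨_, rfl⟩) hfib
  letI : Algebra k A := hAlg
  let e : TA (k := k) A ⟶ H₀ := e₀
  haveI he : IsOpenImmersion e.left := he₀'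
  haveI : Algebra.FiniteType k A := by
    haveI h1 : LocallyOfFiniteType (e.left ≫ H₀.hom) := inferInstance
    rw [Over.w] at h1
    have h2 : LocallyOfFiniteType (Spec.map (CommRingCat.ofHom (algebraMap k A))) := by
      rw [← Category.comp_id (Spec.map (CommRingCat.ofHom (algebraMap k A)))]; exact h1
    exact RingHom.finiteType_algebraMap.1 ((HasRingHomProperty.Spec_iff (P := @LocallyOfFiniteType)).1 h2)
  haveI : IsNoetherianRing A := Algebra.FiniteType.isNoetherianRing k A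
  obtain ⟨K, hK, hKe⟩ := P.exists_fam _ (isFinLocFreeOfDeg_pull f e Z₀.1 Z₀.2) hr
  have hpoint : ∀ φ : A →ₐ[k] k, Tmap φ ≫ e = toH hH₀ P (hK.map φ) := fun φ =>
    hom_ext_of_isUniversal f hH₀ _ _ (by rw [pull_comp, ← hKe, P.pull_fam hK, pull_toH])
  have hclosedpt : ∀ x : TA (k := k) k ⟶ H₀, x.left p₀ ∈ Set.range e.left →
      ∃ φ : A →ₐ[k] k, Tmap φ ≫ e = x := by
    rintro x ⟨p, hp⟩
    have hpc : IsClosed ({p} : Set (PrimeSpectrum A)) := by
      have h : IsClosed (e.left ⁻¹' {e.left p}) := (hp ▸ isClosed_point x).preimage e.left.continuous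
      rwa [show e.left ⁻¹' {e.left p} = {p} from Set.ext fun z => ⟨fun hz => e.left.isOpenEmbedding.injective hz,
        fun hz => congrArg e.left (Set.mem_singleton_iff.1 hz)⟩] at h
    haveI := (PrimeSpectrum.isClosed_singleton_iff_isMaximal p).1 hpc
    obtain ⟨φ, hφ⟩ := exists_algHom_ker (k := k) p.asIdeal
    refine ⟨φ, point_ext ?_⟩
    rw [Over.comp_left, Scheme.Hom.comp_apply, ← hp]
    exact congrArg e.left (PrimeSpectrum.ext ((asIdeal_comap_closedPoint φ).trans hφ))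
  obtain ⟨φ₀, hφ₀⟩ := hclosedpt x₀ hye
  have hbadfin : {Q ∈ minimalPrimes A | ¬ Q ≤ RingHom.ker φ₀}.Finite :=
    (minimalPrimes.finite_of_isNoetherianRing A).subset fun Q hQ => hQ.1
  let V : Set (PrimeSpectrum A) := (⋃ Q ∈ {Q ∈ minimalPrimes A | ¬ Q ≤ RingHom.ker φ₀}, PrimeSpectrum.zeroLocus (Q : Set A))ᶜ
  have hVo : IsOpen V := (hbadfin.isClosed_biUnion fun Q _ => PrimeSpectrum.isClosed_zeroLocus _).isOpen_compl
  refine ⟨e.left '' V, e.left.isOpenEmbedding.isOpenMap _ hVo,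
    ⟨(Tmap φ₀).left p₀, ?_, by rw [← hφ₀, Over.comp_left, Scheme.Hom.comp_apply]⟩, ?_⟩
  · intro hmem
    obtain ⟨Q, hQ, hQp⟩ := Set.mem_iUnion₂.1 hmem
    refine hQ.2 ?_
    rw [← asIdeal_comap_closedPoint φ₀]
    exact hQp
  rintro x ⟨p, hpV, hp⟩
  obtain ⟨φ, hφ⟩ := hclosedpt x ⟨p, hp⟩
  have hpφ : p.asIdeal = RingHom.ker φ := by
    rw [← asIdeal_comap_closedPoint φ]
    refine congrArg PrimeSpectrum.asIdeal (e.left.isOpenEmbedding.injective ?_)
    rw [hp, ← hφ, Over.comp_left, Scheme.Hom.comp_apply]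
    rfl
  haveI : (RingHom.ker φ).IsPrime := RingHom.ker_isPrime φ
  obtain ⟨Q, hQmin, hQφ⟩ := Ideal.exists_minimalPrimes_le (I := (⊥ : Ideal A)) (J := RingHom.ker φ) bot_le
  have hQ₀ : Q ≤ RingHom.ker φ₀ := by
    by_contra h
    exact hpV (Set.mem_iUnion₂.2 ⟨Q, ⟨hQmin, h⟩, show Q ≤ p.asIdeal by rw [hpφ]; exact hQφ⟩)
  exact ⟨A, inferInstance, inferInstance, inferInstance, K, hK, φ, φ₀, Q, hQmin.1.1, hQφ, hQ₀,
    (hpoint φ).symm.trans hφ, (hpoint φ₀).symm.trans hφ₀⟩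

include hfin in
/-- Near a point the class does not change. -/
theorem exists_nhd_extCls [LocallyOfFiniteType H₀.hom] (x₀ : TA (k := k) k ⟶ H₀) (y₀ : closedPoints Y)
    (hy₀ : y₀.1 ∉ suppPt Z₀ x₀) :
    ∃ U : Set H₀.left, IsOpen U ∧ x₀.left p₀ ∈ U ∧ ∀ x : TA (k := k) k ⟶ H₀, x.left p₀ ∈ U →
      ∃ v, ExtCls hH₀ hH₁ x y₀.1 v ∧ ExtCls hH₀ hH₁ x₀ y₀.1 v := by
  obtain ⟨O, hO, hEO⟩ := hfin (suppPt Z₀ x₀ ∪ {y₀.1}) ((finite_suppPt x₀).union (Set.finite_singleton _))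
  obtain ⟨P, hP⟩ := exists_piece (f := f) O hO
  obtain ⟨χ₀, hχ₀⟩ := exists_char P y₀.2 (hP ▸ hEO (Or.inr rfl))
  obtain ⟨U, hUo, hxU, hU⟩ := exists_nhd_family hH₀ P x₀ (hP ▸ Set.subset_union_left.trans hEO)
  refine ⟨U, hUo, hxU, fun x hx => ?_⟩
  obtain ⟨A, _, _, _, K, hK, φ, φ₀, Q, hQ, hQφ, hQ₀, hφ, hφ₀⟩ := hU x hx
  haveI := hQ
  have hne : ∃ t ∈ K, ev ((Algebra.ofId k A).comp χ₀) t ∉ Q := by
    by_contra hall
    push Not at hall
    refine hy₀ ?_
    rw [← hφ₀, suppPt_toH, ← hχ₀]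
    refine P.mem_supp_of_le χ₀ fun s hs => ?_
    obtain ⟨t, ht, rfl⟩ := (Ideal.mem_map_iff_of_surjective _ (tmap_surjective φ₀)).1 hs
    rw [RingHom.mem_ker, show χ₀ = φ₀.comp ((Algebra.ofId k A).comp χ₀) from AlgHom.ext fun b =>
      (φ₀.commutes (χ₀ b)).symm, ev_tmap, ← RingHom.mem_ker]
    exact hQ₀ (hall t ht)
  obtain ⟨v, hv⟩ := exists_class_ev (isClass_cls P hH₁) hK ((Algebra.ofId k A).comp χ₀) Q hne
  refine ⟨v, ?_, ?_⟩
  · obtain ⟨J, hJ, hJv⟩ := hv φ hQφ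
    rw [show φ.comp ((Algebra.ofId k A).comp χ₀) = χ₀ from AlgHom.ext fun b => φ.commutes (χ₀ b)] at hJ
    exact ⟨P, χ₀, _, J, hJ, hφ, hχ₀, hJv⟩
  · obtain ⟨J, hJ, hJv⟩ := hv φ₀ hQ₀
    rw [show φ₀.comp ((Algebra.ofId k A).comp χ₀) = χ₀ from AlgHom.ext fun b => φ₀.commutes (χ₀ b)] at hJ
    exact ⟨P, χ₀, _, J, hJ, hφ₀, hχ₀, hJv⟩

include hH₀ hH₁ hfin in
/-- The induction step. -/
theorem connectedSpace_succ [LocallyOfFiniteType H₀.hom] [LocallyOfFiniteType H₁.hom] [ConnectedSpace H₀.left]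
    [PreconnectedSpace Y] [Nonempty Y] [NoetherianSpace Y]
    (hY : ∀ C ∈ irreducibleComponents Y, C.Nontrivial) : ConnectedSpace H₁.left := by
  classical
  haveI : JacobsonSpace H₀.left := LocallyOfFiniteType.jacobsonSpace H₀.hom
  haveI : JacobsonSpace H₁.left := LocallyOfFiniteType.jacobsonSpace H₁.hom
  haveI : JacobsonSpace Y := LocallyOfFiniteType.jacobsonSpace f
  have hex : ∀ (x₀ : TA (k := k) k ⟶ H₀) (y : closedPoints Y), ∃ v, ExtCls hH₀ hH₁ x₀ y.1 v := fun x₀ y => by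
    have hm := irreducibleComponent_mem_irreducibleComponents y.1
    obtain ⟨v, hv, -⟩ := exists_extCls_component hH₀ hH₁ hfin x₀ hm (hY _ hm) y y mem_irreducibleComponent
      mem_irreducibleComponent
    exact ⟨v, hv⟩
  choose c hc using hex
  have hcy : ∀ x₀ (y y' : closedPoints Y), c x₀ y = c x₀ y' := fun x₀ =>
    eq_of_constant_on_components (c x₀) fun C hC y y' hy hy' => by
      obtain ⟨v, hv, hv'⟩ := exists_extCls_component hH₀ hH₁ hfin x₀ hC (hY C hC) y y' hy hy'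
      exact ((hc x₀ y).unique hH₀ hH₁ hv).trans ((hc x₀ y').unique hH₀ hH₁ hv').symm
  choose pnt hpnt using fun z : closedPoints H₀.left => exists_point (H := H₀) z.2
  obtain ⟨y₁, hy₁, hy₁c⟩ := nonempty_inter_closedPoints (Z := (Set.univ : Set Y)) Set.univ_nonempty
    isClosed_univ.isLocallyClosed
  have houtside : ∀ x₀ : TA (k := k) k ⟶ H₀, ∃ y₀ : closedPoints Y, y₀.1 ∉ suppPt Z₀ x₀ := fun x₀ => by
    by_contra hall
    push Not at hall
    have hsub : closedPoints Y ⊆ suppPt Z₀ x₀ := fun y hy => hall ⟨y, hy⟩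
    have hfinc : (closedPoints Y).Finite := (finite_suppPt x₀).subset hsub
    have huniv : closedPoints Y = Set.univ := by
      have h := closure_closedPoints (X := Y)
      rwa [(hfinc.isClosed_biUnion (f := fun y => ({y} : Set Y)) fun y hy => hy) |> fun hcl =>
        IsClosed.closure_eq (show IsClosed (closedPoints Y) by
          have e : (⋃ y ∈ closedPoints Y, ({y} : Set Y)) = closedPoints Y := Set.biUnion_of_singleton _
          exact e ▸ hcl)] at h
    obtain ⟨C, hC⟩ : ∃ C, C ∈ irreducibleComponents Y := ⟨_, irreducibleComponent_mem_irreducibleComponents y₁⟩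
    have hgen : IsGenericPoint hC.1.genericPoint C := by
      have := hC.1.isGenericPoint_genericPoint_closure
      rwa [(isClosed_of_mem_irreducibleComponents C hC).closure_eq] at this
    have hcl : IsClosed ({hC.1.genericPoint} : Set Y) := (huniv ▸ trivial : hC.1.genericPoint ∈ closedPoints Y)
    refine Set.not_nontrivial_singleton (α := Y) (x := hC.1.genericPoint) ?_
    have h2 := hY C hC
    rwa [← hgen.def, hcl.closure_eq] at h2
  have hloc : ∀ z : closedPoints H₀.left, ∃ U : Set H₀.left, IsOpen U ∧ z.1 ∈ U ∧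
      ∀ w : closedPoints H₀.left, w.1 ∈ U → c (pnt w) ⟨y₁, hy₁c⟩ = c (pnt z) ⟨y₁, hy₁c⟩ := fun z => by
    obtain ⟨y₀, hy₀⟩ := houtside (pnt z)
    obtain ⟨U, hU, hzU, hUc⟩ := exists_nhd_extCls hH₀ hH₁ hfin (pnt z) y₀ hy₀
    refine ⟨U, hU, hpnt z ▸ hzU, fun w hw => ?_⟩
    obtain ⟨v, hv, hv'⟩ := hUc (pnt w) ((hpnt w).symm ▸ hw)
    rw [hcy (pnt w) _ y₀, hcy (pnt z) _ y₀, (hc (pnt w) y₀).unique hH₀ hH₁ hv, (hc (pnt z) y₀).unique hH₀ hH₁ hv']
  have hconst := eq_of_locally_constant (fun z => c (pnt z) ⟨y₁, hy₁c⟩) hloc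
  obtain ⟨z₁, -, hz₁⟩ := nonempty_inter_closedPoints (Z := (Set.univ : Set H₀.left)) Set.univ_nonempty
    isClosed_univ.isLocallyClosed
  have hall : ∀ w : closedPoints H₁.left,
      some (ConnectedComponents.mk w.1) = c (pnt ⟨z₁, hz₁⟩) ⟨y₁, hy₁c⟩ := fun w => by
    obtain ⟨x, hx⟩ := exists_point (H := H₁) w.2
    obtain ⟨U, hU, hEU⟩ := hfin (suppPt Z₁ x) (finite_suppPt x)
    obtain ⟨P, hP⟩ := exists_piece (f := f) U hU
    obtain ⟨J, hJ, hJx⟩ := exists_toH_eq hH₁ P x (hP ▸ hEU)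
    obtain ⟨a, χ, h⟩ := exists_isExt hJ
    have hv : cls hH₁ P J = some (ConnectedComponents.mk w.1) := by
      rw [cls_eq hH₁ P hJ, hJx, hx]
    let y : closedPoints Y := ⟨P.pt χ, pt_isClosed P χ⟩
    have hE : ExtCls hH₀ hH₁ (toH hH₀ P h.fam₀) y.1 (some (ConnectedComponents.mk w.1)) :=
      ⟨P, χ, a, J, h, rfl, rfl, hv⟩
    let z : closedPoints H₀.left := ⟨_, isClosed_point (toH hH₀ P h.fam₀)⟩
    have hz : pnt z = toH hH₀ P h.fam₀ := point_ext (hpnt z)
    rw [← hconst z ⟨z₁, hz₁⟩]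
    show _ = c (pnt z) ⟨y₁, hy₁c⟩
    rw [hcy (pnt z) _ y, hz]
    exact (ExtCls.unique hH₀ hH₁ (hc _ y) hE).symm
  obtain ⟨P, χ, a, J, h, -, -, hv⟩ := hc (pnt ⟨z₁, hz₁⟩) ⟨y₁, hy₁c⟩
  rw [cls_eq hH₁ P h.fam₁] at hv
  refine connectedSpace_iff_connectedComponent.2 ⟨(toH hH₁ P h.fam₁).left p₀, Set.univ_subset_iff.1 ?_⟩
  rw [← closure_closedPoints (X := H₁.left)]
  refine closure_minimal (fun w hw => ?_) isClosed_connectedComponent
  have := hall ⟨w, hw⟩
  rw [← hv, Option.some_inj, ConnectedComponents.coe_eq_coe'] at this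
  exact this

end Step

end Groth.L11.HilbConn
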